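import Mathlib

set_option autoImplicit false

namespace Cfsg.Agent.Helper19

open MulAction Finset

/-- Number of fixed points of `g` on `Ω`. -/
def fixCount (Ω : Type*) [Fintype Ω] [DecidableEq Ω] {G : Type*} [Group G] [MulAction G Ω]
    (g : G) : ℕ :=
  (univ.filter (fun ω : Ω => g • ω = ω)).card

/-- Number of points fixed by `g²`. -/
def fixCount2 (Ω : Type*) [Fintype Ω] [DecidableEq Ω] {G : Type*} [Group G] [MulAction G Ω]
    (g : G) : ℕ :=
  (univ.filter (fun ω : Ω => g • g • ω = ω)).card

theorem sum_card_filter_swap {α β : Type*} [Fintype α] [Fintype β] (r : α → β → Prop)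
    [∀ a b, Decidable (r a b)] :
    ∑ a : α, (univ.filter (fun b : β => r a b)).card
      = ∑ b : β, (univ.filter (fun a : α => r a b)).card := by
  simp only [Finset.card_filter]
  exact Finset.sum_comm

section

variable {G Ω : Type*} [Group G] [Fintype G] [Fintype Ω] [DecidableEq Ω] [MulAction G Ω]

theorem sum_fixCount [Nonempty Ω] (htr : IsPretransitive G Ω) :
    ∑ g : G, fixCount Ω g = Fintype.card G := by
  unfold fixCount
  rw [sum_card_filter_swap (fun (g : G) (ω : Ω) => g • ω = ω)]
  have h1 : ∀ ω : Ω,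
      Fintype.card Ω * (univ.filter (fun g : G => g • ω = ω)).card = Fintype.card G := by
    intro ω
    have h2 : (univ.filter (fun g : G => g • ω = ω)).card = Nat.card (stabilizer G ω) := by
      rw [← Fintype.card_subtype, ← Nat.card_eq_fintype_card]; rfl
    have h3 := Subgroup.index_mul_card (stabilizer G ω)
    rw [index_stabilizer_of_transitive] at h3
    rw [h2, ← Nat.card_eq_fintype_card, ← Nat.card_eq_fintype_card]
    exact h3
  have h3 : Fintype.card Ω * ∑ ω : Ω, (univ.filter (fun g : G => g • ω = ω)).card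
      = Fintype.card Ω * Fintype.card G := by
    rw [Finset.mul_sum, Finset.sum_congr rfl (fun ω _ => h1 ω), Finset.sum_const,
      Finset.card_univ, smul_eq_mul]
  exact Nat.eq_of_mul_eq_mul_left Fintype.card_pos h3

theorem sum_fixCount2_le : ∑ g : G, fixCount2 Ω g ≤ ∑ g : G, fixCount Ω g ^ 2 := by
  have h1 : ∀ g : G, fixCount2 Ω g
      ≤ (univ.filter (fun p : Ω × Ω => g • p.1 = p.2 ∧ g • p.2 = p.1)).card := by
    intro g
    unfold fixCount2
    apply Finset.card_le_card_of_injOn (fun ω => (ω, g • ω))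
    · intro ω hω
      simp only [Finset.mem_coe, Finset.mem_filter, Finset.mem_univ, true_and] at hω ⊢
      exact hω
    · intro a _ b _ hab
      exact congrArg Prod.fst hab
  have h2 : ∀ p : Ω × Ω, (univ.filter (fun g : G => g • p.1 = p.2 ∧ g • p.2 = p.1)).card
      ≤ (univ.filter (fun g : G => g • p.1 = p.1 ∧ g • p.2 = p.2)).card := by
    intro p
    by_cases hne : (univ.filter (fun g : G => g • p.1 = p.2 ∧ g • p.2 = p.1)).Nonempty
    · obtain ⟨g0, hg0⟩ := hne
      rw [Finset.mem_filter] at hg0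
      apply Finset.card_le_card_of_injOn (fun g => g0⁻¹ * g)
      · intro g hg
        simp only [Finset.mem_coe, Finset.mem_filter, Finset.mem_univ, true_and] at hg ⊢
        constructor
        · rw [mul_smul, hg.1, inv_smul_eq_iff]; exact hg0.2.1.symm
        · rw [mul_smul, hg.2, inv_smul_eq_iff]; exact hg0.2.2.symm
      · intro a _ b _ hab
        exact mul_left_cancel hab
    · rw [Finset.not_nonempty_iff_eq_empty] at hne
      rw [hne]; simp
  have h3 : ∀ g : G, (univ.filter (fun p : Ω × Ω => g • p.1 = p.1 ∧ g • p.2 = p.2)).card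
      = fixCount Ω g ^ 2 := by
    intro g
    unfold fixCount
    rw [← Finset.univ_product_univ,
      Finset.filter_product (fun ω : Ω => g • ω = ω) (fun ω : Ω => g • ω = ω),
      Finset.card_product, sq]
  calc ∑ g : G, fixCount2 Ω g
      ≤ ∑ g : G, (univ.filter (fun p : Ω × Ω => g • p.1 = p.2 ∧ g • p.2 = p.1)).card :=
        Finset.sum_le_sum (fun g _ => h1 g)
    _ = ∑ p : Ω × Ω, (univ.filter (fun g : G => g • p.1 = p.2 ∧ g • p.2 = p.1)).card :=
        sum_card_filter_swap (fun (g : G) (p : Ω × Ω) => g • p.1 = p.2 ∧ g • p.2 = p.1)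
    _ ≤ ∑ p : Ω × Ω, (univ.filter (fun g : G => g • p.1 = p.1 ∧ g • p.2 = p.2)).card :=
        Finset.sum_le_sum (fun p _ => h2 p)
    _ = ∑ g : G, (univ.filter (fun p : Ω × Ω => g • p.1 = p.1 ∧ g • p.2 = p.2)).card :=
        (sum_card_filter_swap (fun (g : G) (p : Ω × Ω) => g • p.1 = p.1 ∧ g • p.2 = p.2)).symm
    _ = ∑ g : G, fixCount Ω g ^ 2 := Finset.sum_congr rfl (fun g _ => h3 g)

/-- If all derangements of a transitive group are involutions, every element has `0`, `1` or
all points fixed. -/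
theorem fixCount_trichotomy [Nonempty Ω] (htr : IsPretransitive G Ω)
    (hinv : ∀ g : G, fixCount Ω g = 0 → g * g = 1) (g : G) :
    fixCount Ω g = 0 ∨ fixCount Ω g = 1 ∨ fixCount Ω g = Fintype.card Ω := by
  have hle : ∀ g : G, fixCount Ω g ≤ Fintype.card Ω := fun g => Finset.card_le_univ _
  have h21 : ∀ g : G, fixCount Ω g ≤ fixCount2 Ω g := by
    intro g
    apply Finset.card_le_card
    intro ω hω
    rw [Finset.mem_filter] at hω ⊢
    exact ⟨hω.1, by rw [hω.2, hω.2]⟩
  have hT : ∀ g ∈ (univ : Finset G), fixCount Ω g ^ 2 + Fintype.card Ω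
      ≤ fixCount2 Ω g + Fintype.card Ω * fixCount Ω g := by
    intro g _
    by_cases h0 : fixCount Ω g = 0
    · have h1 : fixCount2 Ω g = Fintype.card Ω := by
        unfold fixCount2
        rw [← Finset.card_univ]
        congr 1
        apply Finset.filter_true_of_mem
        intro ω _
        rw [← mul_smul, hinv g h0, one_smul]
      rw [h0, h1]; simp
    · have h1 : 1 ≤ fixCount Ω g := Nat.one_le_iff_ne_zero.mpr h0
      have h2 := hle g
      have h3 := h21 g
      obtain ⟨b, hb⟩ := Nat.exists_eq_add_of_le h2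
      rw [hb]
      have h4 : b ≤ b * fixCount Ω g := Nat.le_mul_of_pos_right b h1
      nlinarith
  have hS1 := sum_fixCount (G := G) (Ω := Ω) htr
  have hS3 := sum_fixCount2_le (G := G) (Ω := Ω)
  have hsum_le : ∑ g : G, (fixCount2 Ω g + Fintype.card Ω * fixCount Ω g)
      ≤ ∑ g : G, (fixCount Ω g ^ 2 + Fintype.card Ω) := by
    rw [Finset.sum_add_distrib, Finset.sum_add_distrib, ← Finset.mul_sum, hS1, Finset.sum_const,
      Finset.card_univ, smul_eq_mul, mul_comm (Fintype.card G)]
    exact Nat.add_le_add_right hS3 _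
  have heq : ∑ g : G, (fixCount Ω g ^ 2 + Fintype.card Ω)
      = ∑ g : G, (fixCount2 Ω g + Fintype.card Ω * fixCount Ω g) :=
    le_antisymm (Finset.sum_le_sum hT) hsum_le
  have hall := (Finset.sum_eq_sum_iff_of_le hT).mp heq g (Finset.mem_univ g)
  by_cases h0 : fixCount Ω g = 0
  · exact Or.inl h0
  right
  have h1 : 1 ≤ fixCount Ω g := Nat.one_le_iff_ne_zero.mpr h0
  have h2 := hle g
  have h3 := h21 g
  by_contra hcon
  push Not at hcon
  obtain ⟨hc1, hc2⟩ := hcon
  have h5 : 2 ≤ fixCount Ω g := by omega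
  have h6 : fixCount Ω g + 1 ≤ Fintype.card Ω := by omega
  obtain ⟨c, hc⟩ := Nat.exists_eq_add_of_le h6
  rw [hc] at hall
  have h7 : c * 2 ≤ c * fixCount Ω g := Nat.mul_le_mul_left c h5
  nlinarith

end

end Cfsg.Agent.Helper19
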