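import Mathlib

set_option autoImplicit false

namespace Cfsg.Agent.Helper19

open MulAction

/-- Burnside's lemma with `Nat.card`. -/
theorem burnside_nat (G X : Type*) [Group G] [MulAction G X] [Fintype G] [Finite X] :
    ∑ g : G, Nat.card (fixedBy X g) = Nat.card (orbitRel.Quotient G X) * Nat.card G := by
  classical
  have := Fintype.ofFinite X
  have h := sum_card_fixedBy_eq_card_orbits_mul_card_group G X
  rw [Nat.card_eq_fintype_card, Nat.card_eq_fintype_card, ← h]
  exact Finset.sum_congr rfl (fun g _ => Nat.card_eq_fintype_card)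

/-- The subgroup generated by the derangements. -/
def derSub (G Ω : Type*) [Group G] [MulAction G Ω] : Subgroup G :=
  Subgroup.closure {g : G | ∀ ω : Ω, g • ω ≠ ω}

theorem one_le_card_fixedBy_of_not_mem {G Ω : Type*} [Group G] [MulAction G Ω] [Finite Ω]
    (g : G) (hg : g ∉ derSub G Ω) : 1 ≤ Nat.card (fixedBy Ω g) := by
  have h : ¬ ∀ ω : Ω, g • ω ≠ ω := fun h => hg (Subgroup.subset_closure h)
  push Not at h
  obtain ⟨ω, hω⟩ := h
  have : Nonempty (fixedBy Ω g) := ⟨⟨ω, hω⟩⟩
  exact Nat.card_pos

/-- Splitting a sum over `G` along a subgroup. -/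
theorem sum_split_subgroup {G : Type*} [Group G] [Fintype G] (D : Subgroup G)
    [DecidablePred (fun g => g ∈ D)] [Fintype D] (F : G → ℕ) :
    ∑ g : G, F g = ∑ d : D, F d +
      ∑ g ∈ (Finset.univ : Finset G).filter (fun g => g ∉ D), F g := by
  rw [← Finset.sum_filter_add_sum_filter_not Finset.univ (fun g => g ∈ D) F]
  congr 1
  exact Finset.sum_subtype (Finset.univ.filter (fun g => g ∈ D)) (by simp) F

theorem card_filter_not_mem {G : Type*} [Group G] [Fintype G] (D : Subgroup G)
    [DecidablePred (fun g => g ∈ D)] :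
    ((Finset.univ : Finset G).filter (fun g => g ∉ D)).card + Nat.card D = Nat.card G := by
  have := Fintype.ofFinite D
  have h := sum_split_subgroup D (fun _ => 1)
  simp only [Finset.sum_const, smul_eq_mul, mul_one, Finset.card_univ] at h
  rw [Nat.card_eq_fintype_card, Nat.card_eq_fintype_card, h]
  ring

/-- The derangement subgroup of a transitive group is transitive, and every element outside it
has exactly one fixed point. -/
theorem derSub_core {G Ω : Type*} [Group G] [Finite G] [MulAction G Ω] [Finite Ω]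
    (htrans : IsPretransitive G Ω) :
    IsPretransitive ↥(derSub G Ω) Ω ∧
      ∀ g : G, g ∉ derSub G Ω → Nat.card (fixedBy Ω g) = 1 := by
  classical
  have := Fintype.ofFinite G
  have := Fintype.ofFinite (derSub G Ω)
  set D := derSub G Ω with hD
  set f : G → ℕ := fun g => Nat.card (fixedBy Ω g) with hf
  have hG := burnside_nat G Ω
  have hDb : ∑ d : D, f d = Nat.card (orbitRel.Quotient D Ω) * Nat.card D := burnside_nat D Ω
  have hsplit := sum_split_subgroup D f
  have hcard := card_filter_not_mem D
  have hrG : Nat.card (orbitRel.Quotient G Ω) ≤ 1 := by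
    have := (pretransitive_iff_subsingleton_quotient G Ω).1 htrans
    exact Finite.card_le_one_iff_subsingleton.2 this
  have hge : ((Finset.univ : Finset G).filter (fun g => g ∉ D)).card ≤
      ∑ g ∈ (Finset.univ : Finset G).filter (fun g => g ∉ D), f g := by
    rw [Finset.card_eq_sum_ones]
    apply Finset.sum_le_sum
    intro g hg
    exact one_le_card_fixedBy_of_not_mem g (Finset.mem_filter.1 hg).2
  have hDpos : 0 < Nat.card D := Nat.card_pos
  have hGle : ∑ g : G, f g ≤ Nat.card G := by
    rw [hG]
    calc Nat.card (orbitRel.Quotient G Ω) * Nat.card G ≤ 1 * Nat.card G :=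
          Nat.mul_le_mul_right _ hrG
      _ = Nat.card G := one_mul _
  have hrD : Nat.card (orbitRel.Quotient D Ω) * Nat.card D ≤ Nat.card D := by
    rw [← hDb]
    omega
  have hrD1 : Nat.card (orbitRel.Quotient D Ω) ≤ 1 := by
    by_contra hcon
    push Not at hcon
    have : 2 * Nat.card D ≤ Nat.card (orbitRel.Quotient D Ω) * Nat.card D :=
      Nat.mul_le_mul_right _ hcon
    omega
  refine ⟨?_, ?_⟩
  · rw [pretransitive_iff_subsingleton_quotient]
    exact Finite.card_le_one_iff_subsingleton.1 hrD1
  · intro g₀ hg₀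
    have hne : Nonempty Ω := by
      by_contra hemp
      rw [not_nonempty_iff] at hemp
      exact hg₀ (Subgroup.subset_closure (fun ω => (hemp.false ω).elim))
    have hq : Nonempty (orbitRel.Quotient D Ω) := by
      obtain ⟨ω⟩ := hne
      exact ⟨Quotient.mk'' ω⟩
    have hrDpos : 0 < Nat.card (orbitRel.Quotient D Ω) := Nat.card_pos
    have hrDeq : Nat.card (orbitRel.Quotient D Ω) = 1 := by omega
    rw [hrDeq, one_mul] at hDb
    have hle : ∑ g ∈ (Finset.univ : Finset G).filter (fun g => g ∉ D), f g ≤
        ((Finset.univ : Finset G).filter (fun g => g ∉ D)).card := by omega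
    by_contra hne1
    have h1 := one_le_card_fixedBy_of_not_mem g₀ hg₀
    have h2 : 1 < f g₀ := by
      have : f g₀ ≠ 1 := hne1
      have : 1 ≤ f g₀ := h1
      omega
    have hlt : ∑ g ∈ (Finset.univ : Finset G).filter (fun g => g ∉ D), (1 : ℕ) <
        ∑ g ∈ (Finset.univ : Finset G).filter (fun g => g ∉ D), f g := by
      apply Finset.sum_lt_sum
      · intro g hg
        exact one_le_card_fixedBy_of_not_mem g (Finset.mem_filter.1 hg).2
      · exact ⟨g₀, Finset.mem_filter.2 ⟨Finset.mem_univ _, hg₀⟩, h2⟩
    rw [← Finset.card_eq_sum_ones] at hlt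
    omega

theorem card_fixedBy_prod {G Ω : Type*} [Group G] [MulAction G Ω] [Finite Ω] (g : G) :
    Nat.card (fixedBy (Ω × Ω) g) = Nat.card (fixedBy Ω g) ^ 2 := by
  rw [sq, ← Nat.card_prod]
  refine Nat.card_congr ?_
  refine
    { toFun := fun x => (⟨x.1.1, ?_⟩, ⟨x.1.2, ?_⟩)
      invFun := fun y => ⟨(y.1.1, y.2.1), ?_⟩
      left_inv := fun x => rfl
      right_inv := fun y => rfl }
  · have := x.2
    rw [mem_fixedBy] at this ⊢
    exact congrArg Prod.fst this
  · have := x.2
    rw [mem_fixedBy] at this ⊢
    exact congrArg Prod.snd this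
  · rw [mem_fixedBy]
    have h1 := y.1.2
    have h2 := y.2.2
    rw [mem_fixedBy] at h1 h2
    exact Prod.ext h1 h2

/-- The rank formula for the derangement subgroup. -/
theorem derSub_rank {G Ω : Type*} [Group G] [Finite G] [MulAction G Ω] [Finite Ω]
    (htrans : IsPretransitive G Ω) :
    Nat.card (orbitRel.Quotient ↥(derSub G Ω) (Ω × Ω)) - 1 =
      (Nat.card (orbitRel.Quotient G (Ω × Ω)) - 1) * (derSub G Ω).index := by
  classical
  have := Fintype.ofFinite G
  have := Fintype.ofFinite (derSub G Ω)
  obtain ⟨-, hone⟩ := derSub_core htrans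
  set D := derSub G Ω with hD
  set f : G → ℕ := fun g => Nat.card (fixedBy (Ω × Ω) g) with hf
  have hG : ∑ g : G, f g = Nat.card (orbitRel.Quotient G (Ω × Ω)) * Nat.card G :=
    burnside_nat G (Ω × Ω)
  have hDb : ∑ d : D, f d = Nat.card (orbitRel.Quotient D (Ω × Ω)) * Nat.card D :=
    burnside_nat D (Ω × Ω)
  have hsplit := sum_split_subgroup D f
  have hcard := card_filter_not_mem D
  have hout : ∑ g ∈ (Finset.univ : Finset G).filter (fun g => g ∉ D), f g =
      ((Finset.univ : Finset G).filter (fun g => g ∉ D)).card := by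
    rw [Finset.card_eq_sum_ones]
    apply Finset.sum_congr rfl
    intro g hg
    show Nat.card (fixedBy (Ω × Ω) g) = 1
    rw [card_fixedBy_prod, hone g (Finset.mem_filter.1 hg).2]
    rfl
  have hidx : Nat.card D * D.index = Nat.card G := Subgroup.card_mul_index D
  have hDpos : 0 < Nat.card D := Nat.card_pos
  have hm : 0 < D.index := Nat.pos_of_ne_zero Subgroup.index_ne_zero_of_finite
  generalize Nat.card (orbitRel.Quotient G (Ω × Ω)) = RG at *
  generalize Nat.card (orbitRel.Quotient D (Ω × Ω)) = RD at *
  generalize D.index = m at *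
  generalize Nat.card D = c at *
  have e0 : RG * Nat.card G + c = RD * c + Nat.card G := by omega
  rw [← hidx] at e0
  have e1 : c * (RG * m + 1) = c * (RD + m) := by
    calc c * (RG * m + 1) = RG * (c * m) + c := by ring
      _ = RD * c + c * m := e0
      _ = c * (RD + m) := by ring
  have e2 : RG * m + 1 = RD + m := Nat.eq_of_mul_eq_mul_left hDpos e1
  rcases Nat.eq_zero_or_pos RG with h0 | hpos
  · rw [h0] at e2 ⊢
    simp only [zero_mul, zero_add] at e2
    have : RD = 0 := by omega
    rw [this]
    simp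
  · obtain ⟨k, rfl⟩ : ∃ k, RG = k + 1 := ⟨RG - 1, by omega⟩
    have e3 : RD = k * m + 1 := by
      have : (k + 1) * m = k * m + m := by ring
      omega
    rw [e3]
    simp

end Cfsg.Agent.Helper19
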