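import Mathlib

set_option autoImplicit false

namespace Cfsg.Agent.Helper19

/-- Reindexing a power along an equivalence of index types. -/
def piCongrIdx {ι κ : Type*} (S : Type*) [Mul S] (e : ι ≃ κ) : (ι → S) ≃* (κ → S) where
  toFun f := f ∘ e.symm
  invFun g := g ∘ e
  left_inv f := by funext i; simp
  right_inv g := by funext i; simp
  map_mul' _ _ := rfl

/-- `S^ι × S ≃ S^(Option ι)`. -/
def piOptionMulEquiv (ι : Type*) (S : Type*) [Mul S] : ((ι → S) × S) ≃* (Option ι → S) where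
  toFun p := fun o => Option.elim o p.2 p.1
  invFun f := (fun i => f (some i), f none)
  left_inv p := rfl
  right_inv f := by funext o; cases o <;> rfl
  map_mul' p q := by funext o; cases o <;> rfl

/-- `S^ι × S^κ ≃ S^(ι ⊕ κ)`. -/
def piSumMulEquiv (ι κ : Type*) (S : Type*) [Mul S] : ((ι → S) × (κ → S)) ≃* (ι ⊕ κ → S) where
  toFun p := Sum.elim p.1 p.2
  invFun f := (f ∘ Sum.inl, f ∘ Sum.inr)
  left_inv p := rfl
  right_inv f := by funext o; cases o <;> rfl
  map_mul' p q := by funext o; cases o <;> rfl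

/-- Internal direct product of two subgroups with trivial intersection that commute
elementwise. -/
theorem exists_prod_subgroup {G : Type*} [Group G] (A B : Subgroup G)
    (hcomm : ∀ a ∈ A, ∀ b ∈ B, a * b = b * a) (hdisj : A ⊓ B = ⊥) :
    ∃ P : Subgroup G, (∀ x, x ∈ P ↔ ∃ a ∈ A, ∃ b ∈ B, x = a * b) ∧ Nonempty (P ≃* (A × B)) := by
  let φ : A × B →* G :=
    MonoidHom.noncommCoprod A.subtype B.subtype (fun a b => hcomm a a.2 b b.2)
  have hφ : ∀ p : A × B, φ p = (p.1 : G) * (p.2 : G) := fun p => rfl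
  have hinj : Function.Injective φ := by
    rw [injective_iff_map_eq_one]
    intro p hp
    rw [hφ] at hp
    have h1 : (p.1 : G) = (p.2 : G)⁻¹ := eq_inv_of_mul_eq_one_left hp
    have h2 : (p.1 : G) ∈ A ⊓ B :=
      Subgroup.mem_inf.mpr ⟨p.1.2, by rw [h1]; exact inv_mem p.2.2⟩
    rw [hdisj, Subgroup.mem_bot] at h2
    have h3 : (p.2 : G) = 1 := by rw [h2, one_mul] at hp; exact hp
    exact Prod.ext (Subtype.ext h2) (Subtype.ext h3)
  refine ⟨φ.range, fun x => ?_, ⟨(MonoidHom.ofInjective hinj).symm⟩⟩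
  constructor
  · rintro ⟨p, rfl⟩
    exact ⟨p.1, p.1.2, p.2, p.2.2, hφ p⟩
  · rintro ⟨a, ha, b, hb, rfl⟩
    exact ⟨(⟨a, ha⟩, ⟨b, hb⟩), rfl⟩

/-- A minimal normal subgroup of a finite group is a direct power of a simple group. -/
theorem minNormal_structure {G : Type*} [Group G] [Finite G] (V : Subgroup G) (hVn : V.Normal)
    (hV : V ≠ ⊥) (hmin : ∀ M : Subgroup G, M.Normal → M ≤ V → M = ⊥ ∨ M = V) :
    ∃ (S : Subgroup G) (ι : Type) (_ : Fintype ι) (_ : Nonempty ι),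
      S ≤ V ∧ IsSimpleGroup S ∧ Nonempty (V ≃* (ι → S)) := by
  classical
  let 𝒜 : Set (Subgroup G) := {A | A ≤ V ∧ A ≠ ⊥ ∧ ∀ v ∈ V, ∀ a ∈ A, v * a * v⁻¹ ∈ A}
  have hV𝒜 : V ∈ 𝒜 := ⟨le_rfl, hV, fun v hv a ha => hVn.conj_mem a ha v⟩
  obtain ⟨S, hS𝒜, hSmin⟩ :=
    Set.exists_min_image 𝒜 (fun A => Nat.card A) (Set.toFinite 𝒜) ⟨V, hV𝒜⟩
  obtain ⟨hSV, hSne, hSnorm⟩ := hS𝒜
  have hS𝒜' : S ∈ 𝒜 := ⟨hSV, hSne, hSnorm⟩
  have hScard : 2 ≤ Nat.card S := by
    have hnt : Nontrivial S := (Subgroup.nontrivial_iff_ne_bot S).mpr hSne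
    exact Finite.one_lt_card
  let cj : G → Subgroup G := fun g => S.map (MulAut.conj g).toMonoidHom
  have hcj_mem : ∀ g x, x ∈ cj g ↔ ∃ s ∈ S, g * s * g⁻¹ = x := by
    intro g x
    exact Subgroup.mem_map
  have hcj_card : ∀ g, Nat.card (cj g) = Nat.card S := fun g =>
    (Nat.card_congr (S.equivMapOfInjective _ (MulAut.conj g).injective).toEquiv).symm
  have hcj𝒜 : ∀ g, cj g ∈ 𝒜 := by
    intro g
    refine ⟨?_, ?_, ?_⟩
    · intro x hx
      obtain ⟨s, hs, rfl⟩ := (hcj_mem g x).mp hx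
      exact hVn.conj_mem s (hSV hs) g
    · intro hbot
      have h1 := hcj_card g
      rw [hbot, Subgroup.card_bot] at h1
      exact hSne (Subgroup.eq_bot_of_card_eq _ h1.symm)
    · intro v hv x hx
      obtain ⟨s, hs, rfl⟩ := (hcj_mem g x).mp hx
      rw [hcj_mem]
      have h2 : g⁻¹ * v * g ∈ V := by
        have h3 := hVn.conj_mem v hv g⁻¹
        rw [inv_inv] at h3
        exact h3
      exact ⟨(g⁻¹ * v * g) * s * (g⁻¹ * v * g)⁻¹, hSnorm _ h2 s hs, by group⟩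
  have hF1 : ∀ g, ∀ B ∈ 𝒜, cj g ⊓ B ≠ ⊥ → cj g ≤ B := by
    intro g B hB hne
    have hmem : cj g ⊓ B ∈ 𝒜 := ⟨inf_le_left.trans (hcj𝒜 g).1, hne, fun v hv a ha =>
      Subgroup.mem_inf.mpr ⟨(hcj𝒜 g).2.2 v hv a (Subgroup.mem_inf.mp ha).1,
        hB.2.2 v hv a (Subgroup.mem_inf.mp ha).2⟩⟩
    have hle : Nat.card S ≤ Nat.card ↥(cj g ⊓ B) := hSmin _ hmem
    have heq : cj g ⊓ B = cj g :=
      Subgroup.eq_of_le_of_card_ge inf_le_left (by rw [hcj_card]; exact hle)
    rw [← heq]; exact inf_le_right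
  have hcomm_of_disj : ∀ A B : Subgroup G, A ≤ V → B ≤ V →
      (∀ v ∈ V, ∀ a ∈ A, v * a * v⁻¹ ∈ A) → (∀ v ∈ V, ∀ b ∈ B, v * b * v⁻¹ ∈ B) →
      A ⊓ B = ⊥ → ∀ a ∈ A, ∀ b ∈ B, a * b = b * a := by
    intro A B hA hB hAn hBn hdisj a ha b hb
    have h1 : a * b * a⁻¹ * b⁻¹ ∈ A ⊓ B := by
      refine Subgroup.mem_inf.mpr ⟨?_, ?_⟩
      · have h2 : b * a⁻¹ * b⁻¹ ∈ A := hAn b (hB hb) a⁻¹ (inv_mem ha)
        have h3 : a * b * a⁻¹ * b⁻¹ = a * (b * a⁻¹ * b⁻¹) := by group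
        rw [h3]; exact mul_mem ha h2
      · exact mul_mem (hBn a (hA ha) b hb) (inv_mem hb)
    rw [hdisj, Subgroup.mem_bot] at h1
    have h4 : a * b = a * b * a⁻¹ * b⁻¹ * (b * a) := by group
    rw [h4, h1, one_mul]
  -- the normal closure of `S` is `V`
  have hQ : Subgroup.normalClosure (S : Set G) = V := by
    rcases hmin (Subgroup.normalClosure (S : Set G)) Subgroup.normalClosure_normal
      (Subgroup.normalClosure_le_normal hSV) with h | h
    · exfalso; apply hSne; rw [eq_bot_iff, ← h]; exact Subgroup.le_normalClosure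
    · exact h
  have hgen : ∀ K : Subgroup G, (∀ g, cj g ≤ K) → V ≤ K := by
    intro K hK
    rw [← hQ]
    unfold Subgroup.normalClosure
    rw [Subgroup.closure_le]
    intro x hx
    rw [Group.mem_conjugatesOfSet_iff] at hx
    obtain ⟨s, hs, hconj⟩ := hx
    obtain ⟨c, rfl⟩ := isConj_iff.mp hconj
    exact hK c ((hcj_mem c _).mpr ⟨s, hs, rfl⟩)
  -- simplicity of `S`
  have hSsimple : IsSimpleGroup S := by
    have hnt : Nontrivial S := (Subgroup.nontrivial_iff_ne_bot S).mpr hSne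
    refine ⟨fun R hR => ?_⟩
    by_cases hRb : R = ⊥
    · exact Or.inl hRb
    right
    have hR'mem : ∀ x, x ∈ R.map S.subtype ↔ ∃ r ∈ R, (r : G) = x := fun x => Subgroup.mem_map
    have hR'S : R.map S.subtype ≤ S := by
      intro x hx
      obtain ⟨r, -, rfl⟩ := (hR'mem x).mp hx
      exact r.2
    have hSnormR : ∀ s ∈ S, ∀ x ∈ R.map S.subtype, s * x * s⁻¹ ∈ R.map S.subtype := by
      intro s hs x hx
      obtain ⟨r, hr, rfl⟩ := (hR'mem x).mp hx
      exact (hR'mem _).mpr ⟨(⟨s, hs⟩ : S) * r * (⟨s, hs⟩ : S)⁻¹, hR.conj_mem r hr ⟨s, hs⟩, rfl⟩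
    have hnorm_of : ∀ x : G, (∀ r ∈ R.map S.subtype, x * r * x⁻¹ ∈ R.map S.subtype) →
        (∀ r ∈ R.map S.subtype, x⁻¹ * r * x ∈ R.map S.subtype) →
        x ∈ Subgroup.normalizer ((R.map S.subtype : Subgroup G) : Set G) := by
      intro x h1 h2
      rw [Subgroup.mem_normalizer_iff]
      intro r
      constructor
      · exact h1 r
      · intro h3
        have h4 := h2 _ h3
        have h5 : x⁻¹ * (x * r * x⁻¹) * x = r := by group
        rw [h5] at h4
        exact h4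
    have hVnorm : V ≤ Subgroup.normalizer ((R.map S.subtype : Subgroup G) : Set G) := by
      apply hgen
      intro g x hx
      by_cases hdisj : cj g ⊓ S = ⊥
      · have hc := hcomm_of_disj (cj g) S (hcj𝒜 g).1 hSV (hcj𝒜 g).2.2 hSnorm hdisj x hx
        apply hnorm_of
        · intro r hr
          rw [hc r (hR'S hr), mul_inv_cancel_right]; exact hr
        · intro r hr
          rw [mul_assoc, ← hc r (hR'S hr), ← mul_assoc, inv_mul_cancel, one_mul]; exact hr
      · have hxS : x ∈ S := hF1 g S hS𝒜' hdisj hx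
        apply hnorm_of
        · exact hSnormR x hxS
        · intro r hr
          have h6 := hSnormR x⁻¹ (inv_mem hxS) r hr
          rw [inv_inv] at h6
          exact h6
    have hR'𝒜 : R.map S.subtype ∈ 𝒜 := by
      refine ⟨hR'S.trans hSV, ?_, ?_⟩
      · intro hbot
        apply hRb
        rw [eq_bot_iff]
        intro r hr
        have h7 : (r : G) ∈ R.map S.subtype := (hR'mem _).mpr ⟨r, hr, rfl⟩
        rw [hbot, Subgroup.mem_bot] at h7
        rw [Subgroup.mem_bot]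
        exact Subtype.ext h7
      · intro v hv a ha
        exact ((Subgroup.mem_normalizer_iff.mp (hVnorm hv)) a).mp ha
    have hle : Nat.card S ≤ Nat.card ↥(R.map S.subtype) := hSmin _ hR'𝒜
    have hcardR : Nat.card ↥(R.map S.subtype) = Nat.card R :=
      (Nat.card_congr (R.equivMapOfInjective _ S.subtype_injective).toEquiv).symm
    rw [hcardR] at hle
    exact Subgroup.eq_top_of_card_eq R (le_antisymm (Subgroup.card_le_card_group R) hle)
  -- maximal direct product of conjugates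
  let Pfam : Set (Subgroup G) := {P | P ≤ V ∧ (∀ v ∈ V, ∀ a ∈ P, v * a * v⁻¹ ∈ P) ∧
      ∃ (ι : Type) (_ : Fintype ι) (_ : Nonempty ι), Nonempty (P ≃* (ι → S))}
  have hSPfam : S ∈ Pfam :=
    ⟨hSV, hSnorm, Unit, inferInstance, inferInstance, ⟨(MulEquiv.funUnique Unit S).symm⟩⟩
  obtain ⟨P, hPPfam, hPmax⟩ :=
    Set.exists_max_image Pfam (fun A => Nat.card A) (Set.toFinite Pfam) ⟨S, hSPfam⟩
  obtain ⟨hPV, hPnorm, ι, hιf, hιn, ⟨eP⟩⟩ := hPPfam
  have hPcard : Nat.card S ≤ Nat.card P := hPmax S hSPfam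
  have hPne : P ≠ ⊥ := by
    intro hbot
    rw [hbot, Subgroup.card_bot] at hPcard
    omega
  have hP𝒜 : P ∈ 𝒜 := ⟨hPV, hPne, hPnorm⟩
  have hall : ∀ g, cj g ≤ P := by
    intro g
    by_contra hnot
    have hdisj : cj g ⊓ P = ⊥ := by
      by_contra hne
      exact hnot (hF1 g P hP𝒜 hne)
    have hdisj' : P ⊓ cj g = ⊥ := by rw [inf_comm]; exact hdisj
    have hc := hcomm_of_disj P (cj g) hPV (hcj𝒜 g).1 hPnorm (hcj𝒜 g).2.2 hdisj'
    obtain ⟨P', hP'mem, ⟨eP'⟩⟩ := exists_prod_subgroup P (cj g) hc hdisj'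
    have hP'Pfam : P' ∈ Pfam := by
      refine ⟨?_, ?_, Option ι, inferInstance, inferInstance, ⟨?_⟩⟩
      · intro x hx
        obtain ⟨a, ha, b, hb, rfl⟩ := (hP'mem x).mp hx
        exact mul_mem (hPV ha) ((hcj𝒜 g).1 hb)
      · intro v hv x hx
        obtain ⟨a, ha, b, hb, rfl⟩ := (hP'mem x).mp hx
        rw [hP'mem]
        exact ⟨v * a * v⁻¹, hPnorm v hv a ha, v * b * v⁻¹, (hcj𝒜 g).2.2 v hv b hb, by group⟩
      · exact eP'.trans ((MulEquiv.prodCongr eP
          (S.equivMapOfInjective _ (MulAut.conj g).injective).symm).trans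
          (piOptionMulEquiv ι S))
    have h1 : Nat.card P' ≤ Nat.card P := hPmax P' hP'Pfam
    have h2 : Nat.card P' = Nat.card P * Nat.card (cj g) := by
      rw [Nat.card_congr eP'.toEquiv, Nat.card_prod]
    rw [h2, hcj_card] at h1
    have hPpos : 0 < Nat.card P := Nat.card_pos
    nlinarith
  have hPV' : P = V := le_antisymm hPV (hgen P hall)
  subst hPV'
  exact ⟨S, ι, hιf, hιn, hSV, hSsimple, ⟨eP⟩⟩

end Cfsg.Agent.Helper19
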