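import Mathlib
import Cfsg.Prelude.Def_Solvable

set_option autoImplicit false

namespace Cfsg.Agent.Helper19

open MulAction

section PrimFaith

variable {H Δ : Type*} [Group H] [MulAction H Δ] [FaithfulSMul H Δ]

theorem pf_nonempty {x : H} (hx : x ≠ 1) : Nonempty Δ := by
  by_contra hemp
  rw [not_nonempty_iff] at hemp
  exact hx (FaithfulSMul.eq_of_smul_eq_smul (α := Δ) (fun δ => hemp.elim δ))

/-- In a faithful primitive group every nontrivial normal subgroup is transitive. -/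
theorem pf_normal_transitive (hprim : IsPreprimitive H Δ) (N : Subgroup H) [N.Normal]
    (hN : N ≠ ⊥) : ∀ x y : Δ, ∃ n ∈ N, n • x = y := by
  have hq : IsQuasiPreprimitive H Δ := inferInstance
  have hne : fixedPoints N Δ ≠ Set.univ := by
    intro hall
    apply hN
    rw [eq_bot_iff]
    intro l hl
    rw [Subgroup.mem_bot]
    apply FaithfulSMul.eq_of_smul_eq_smul (α := Δ)
    intro τ
    have hmem : τ ∈ fixedPoints N Δ := by rw [hall]; trivial
    have h1 : l • τ = τ := hmem ⟨l, hl⟩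
    rw [one_smul]; exact h1
  have htr := hq.isPretransitive_of_normal hne
  intro x y
  obtain ⟨n, hn⟩ := htr.exists_smul_eq x y
  exact ⟨n, n.2, hn⟩

/-- An element commuting with a transitive subgroup and fixing a point is trivial. -/
theorem pf_semiregular_of_commute (N : Subgroup H) (htr : ∀ x y : Δ, ∃ n ∈ N, n • x = y)
    {c : H} (hcomm : ∀ n ∈ N, c * n = n * c) {δ : Δ} (hδ : c • δ = δ) : c = 1 := by
  apply FaithfulSMul.eq_of_smul_eq_smul (α := Δ)
  intro y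
  obtain ⟨n, hn, rfl⟩ := htr δ y
  rw [one_smul, ← mul_smul, hcomm n hn, mul_smul, hδ]

/-- Two elements of a transitive abelian subgroup agreeing at a point are equal. -/
theorem pf_eq_of_smul_eq (N : Subgroup H) (htr : ∀ x y : Δ, ∃ n ∈ N, n • x = y)
    (hab : ∀ a ∈ N, ∀ b ∈ N, a * b = b * a) {a b : H} (ha : a ∈ N) (hb : b ∈ N) {δ : Δ}
    (h : a • δ = b • δ) : a = b := by
  have h1 : (b⁻¹ * a) • δ = δ := by rw [mul_smul, h, inv_smul_smul]
  have h2 := pf_semiregular_of_commute N htr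
    (fun n hn => hab _ (mul_mem (inv_mem hb) ha) n hn) h1
  exact (inv_mul_eq_one.mp h2).symm

/-- A transitive abelian subgroup is self-centralizing. -/
theorem pf_mem_of_commute [Nonempty Δ] (N : Subgroup H) (htr : ∀ x y : Δ, ∃ n ∈ N, n • x = y)
    (hab : ∀ a ∈ N, ∀ b ∈ N, a * b = b * a) {c : H} (hc : ∀ n ∈ N, c * n = n * c) : c ∈ N := by
  obtain ⟨δ⟩ := ‹Nonempty Δ›
  obtain ⟨n, hn, hnδ⟩ := htr δ (c • δ)
  have h1 : (n⁻¹ * c) • δ = δ := by rw [mul_smul, ← hnδ, inv_smul_smul]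
  have h2 : n⁻¹ * c = 1 := by
    apply pf_semiregular_of_commute N htr _ h1
    intro m hm
    rw [mul_assoc, hc m hm, ← mul_assoc, ← mul_assoc, hab _ (inv_mem hn) m hm]
  have h3 : c = n := (inv_mul_eq_one.mp h2).symm
  rw [h3]; exact hn

/-- Two normal transitive abelian subgroups of a faithful primitive group: one contains the
other. -/
theorem pf_le_of_transitive_abelian [Nonempty Δ] (hprim : IsPreprimitive H Δ)
    (N₁ N₂ : Subgroup H) [N₁.Normal] [N₂.Normal]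
    (htr₁ : ∀ x y : Δ, ∃ n ∈ N₁, n • x = y) (hab₁ : ∀ a ∈ N₁, ∀ b ∈ N₁, a * b = b * a)
    (htr₂ : ∀ x y : Δ, ∃ n ∈ N₂, n • x = y) (hab₂ : ∀ a ∈ N₂, ∀ b ∈ N₂, a * b = b * a) :
    N₂ ≤ N₁ := by
  intro n₂ hn₂
  by_cases hbot : N₁ ⊓ N₂ = ⊥
  · apply pf_mem_of_commute N₁ htr₁ hab₁
    intro n₁ hn₁
    have h1 : n₂ * n₁ * n₂⁻¹ * n₁⁻¹ ∈ N₁ ⊓ N₂ := by
      refine Subgroup.mem_inf.mpr ⟨?_, ?_⟩
      · exact mul_mem (‹N₁.Normal›.conj_mem n₁ hn₁ n₂) (inv_mem hn₁)
      · have h2 : n₁ * n₂⁻¹ * n₁⁻¹ ∈ N₂ := ‹N₂.Normal›.conj_mem n₂⁻¹ (inv_mem hn₂) n₁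
        have h3 : n₂ * n₁ * n₂⁻¹ * n₁⁻¹ = n₂ * (n₁ * n₂⁻¹ * n₁⁻¹) := by group
        rw [h3]; exact mul_mem hn₂ h2
    rw [hbot, Subgroup.mem_bot] at h1
    have h4 : n₂ * n₁ = n₂ * n₁ * n₂⁻¹ * n₁⁻¹ * (n₁ * n₂) := by group
    rw [h4, h1, one_mul]
  · obtain ⟨δ⟩ := ‹Nonempty Δ›
    obtain ⟨m, hm, hmδ⟩ := pf_normal_transitive hprim (N₁ ⊓ N₂) hbot δ (n₂ • δ)
    have h1 := pf_eq_of_smul_eq N₂ htr₂ hab₂ (Subgroup.mem_inf.mp hm).2 hn₂ hmδ
    rw [← h1]; exact (Subgroup.mem_inf.mp hm).1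

/-- A faithful primitive group with nontrivial center has prime order. -/
theorem pf_center [Finite H] (hprim : IsPreprimitive H Δ) (hZ : Subgroup.center H ≠ ⊥) :
    (Nat.card H).Prime := by
  obtain ⟨z, hz⟩ := Subgroup.ne_bot_iff_exists_ne_one.mp hZ
  have hz1 : (z : H) ≠ 1 := fun h => hz (Subtype.ext h)
  have hne : Nonempty Δ := pf_nonempty hz1
  obtain ⟨δ⟩ := hne
  have htrZ := pf_normal_transitive hprim (Subgroup.center H) hZ
  have hstab : stabilizer H δ = ⊥ := by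
    rw [eq_bot_iff]
    intro h hh
    rw [Subgroup.mem_bot]
    apply pf_semiregular_of_commute (Subgroup.center H) htrZ _ hh
    intro n hn
    exact (Subgroup.mem_center_iff.mp hn h)
  have hnt : Nontrivial Δ := by
    by_contra hnn
    rw [not_nontrivial_iff_subsingleton] at hnn
    exact hz1 (FaithfulSMul.eq_of_smul_eq_smul (α := Δ) (fun x => Subsingleton.elim _ _))
  have htr : IsPretransitive H Δ := hprim.toIsPretransitive
  have hco : IsCoatom (stabilizer H δ) := IsPreprimitive.isCoatom_stabilizer_of_isPreprimitive H δ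
  rw [hstab] at hco
  have hcard : Nat.card H ≠ 1 := by
    intro h1
    have hsub : Subsingleton H := (Nat.card_eq_one_iff_unique.mp h1).1
    exact hz1 (Subsingleton.elim _ _)
  obtain ⟨p, hp, hpd⟩ := Nat.exists_prime_and_dvd hcard
  have hpf : Fact p.Prime := ⟨hp⟩
  obtain ⟨x, hx⟩ := exists_prime_orderOf_dvd_card' p hpd
  have hxne : Subgroup.zpowers x ≠ ⊥ := by
    intro hbot
    have hx1 : x = 1 := by
      have hmem : x ∈ Subgroup.zpowers x := Subgroup.mem_zpowers x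
      rw [hbot, Subgroup.mem_bot] at hmem
      exact hmem
    rw [hx1, orderOf_one] at hx
    exact hp.one_lt.ne hx
  have htop : Subgroup.zpowers x = ⊤ := hco.2 _ (bot_lt_iff_ne_bot.mpr hxne)
  have h2 : Nat.card H = p := by
    rw [← Subgroup.card_top (G := H), ← htop, Nat.card_zpowers, hx]
  rw [h2]; exact hp

/-- A nontrivial normal nilpotent subgroup of a faithful primitive group is transitive and
abelian. -/
theorem pf_nilpotent (hprim : IsPreprimitive H Δ) (N : Subgroup H) [N.Normal]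
    (hnil : Group.IsNilpotent N) (hN : N ≠ ⊥) :
    (∀ x y : Δ, ∃ n ∈ N, n • x = y) ∧ (∀ a ∈ N, ∀ b ∈ N, a * b = b * a) := by
  have hNnt : Nontrivial N := (Subgroup.nontrivial_iff_ne_bot N).mpr hN
  have hc := Group.IsNilpotent.center_ne_bot (G := N)
  obtain ⟨z, hz⟩ := Subgroup.ne_bot_iff_exists_ne_one.mp hc
  have hzc : ∀ n : N, n * (z : N) = (z : N) * n := fun n => Subgroup.mem_center_iff.mp z.2 n
  have hz1 : ((z : N) : H) ≠ 1 := fun h => hz (Subtype.ext (Subtype.ext h))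
  have hne : Nonempty Δ := pf_nonempty hz1
  have hZmem : ((z : N) : H) ∈ N ⊓ Subgroup.centralizer (N : Set H) := by
    refine Subgroup.mem_inf.mpr ⟨(z : N).2, ?_⟩
    rw [Subgroup.mem_centralizer_iff]
    intro n hn
    exact congrArg Subtype.val (hzc ⟨n, hn⟩)
  have hZne : N ⊓ Subgroup.centralizer (N : Set H) ≠ ⊥ := by
    intro hbot
    rw [hbot, Subgroup.mem_bot] at hZmem
    exact hz1 hZmem
  have htrZ := pf_normal_transitive hprim (N ⊓ Subgroup.centralizer (N : Set H)) hZne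
  have htrN : ∀ x y : Δ, ∃ n ∈ N, n • x = y := by
    intro x y
    obtain ⟨n, hn, hnx⟩ := htrZ x y
    exact ⟨n, (Subgroup.mem_inf.mp hn).1, hnx⟩
  have hNZ : ∀ n ∈ N, n ∈ Subgroup.centralizer (N : Set H) := by
    intro n hn
    obtain ⟨δ⟩ := hne
    obtain ⟨m, hm, hmδ⟩ := htrZ δ (n • δ)
    have h1 : (m⁻¹ * n) • δ = δ := by rw [mul_smul, ← hmδ, inv_smul_smul]
    have h2 : m⁻¹ * n = 1 := by
      apply pf_semiregular_of_commute (N ⊓ Subgroup.centralizer (N : Set H)) htrZ _ h1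
      intro k hk
      have hk' := Subgroup.mem_centralizer_iff.mp (Subgroup.mem_inf.mp hk).2
      exact hk' _ (mul_mem (inv_mem (Subgroup.mem_inf.mp hm).1) hn)
    have h3 : n = m := (inv_mul_eq_one.mp h2).symm
    rw [h3]; exact (Subgroup.mem_inf.mp hm).2
  refine ⟨htrN, fun a ha b hb => ?_⟩
  exact (Subgroup.mem_centralizer_iff.mp (hNZ b hb) a ha)

/-- The `p`-torsion argument: a nontrivial normal transitive abelian subgroup has prime
exponent. -/
theorem pf_exponent [Finite H] (hprim : IsPreprimitive H Δ) (N : Subgroup H) [N.Normal]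
    (hN : N ≠ ⊥) (htr : ∀ x y : Δ, ∃ n ∈ N, n • x = y)
    (hab : ∀ a ∈ N, ∀ b ∈ N, a * b = b * a) : ∃ p : ℕ, p.Prime ∧ ∀ x ∈ N, x ^ p = 1 := by
  have hNnt : Nontrivial N := (Subgroup.nontrivial_iff_ne_bot N).mpr hN
  have hcard : Nat.card N ≠ 1 := by
    intro h1
    have hsub : Subsingleton N := (Nat.card_eq_one_iff_unique.mp h1).1
    exact not_subsingleton N hsub
  obtain ⟨p, hp, hpd⟩ := Nat.exists_prime_and_dvd hcard
  have hpf : Fact p.Prime := ⟨hp⟩
  obtain ⟨x, hx⟩ := exists_prime_orderOf_dvd_card' p hpd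
  refine ⟨p, hp, ?_⟩
  let P : Subgroup H :=
    { carrier := {y | y ∈ N ∧ y ^ p = 1}
      mul_mem' := by
        rintro a b ⟨ha, ha'⟩ ⟨hb, hb'⟩
        refine ⟨mul_mem ha hb, ?_⟩
        have hcomm : Commute a b := hab a ha b hb
        rw [hcomm.mul_pow, ha', hb', one_mul]
      one_mem' := ⟨one_mem _, one_pow _⟩
      inv_mem' := by
        rintro a ⟨ha, ha'⟩
        exact ⟨inv_mem ha, by rw [inv_pow, ha', inv_one]⟩ }
  have hPn : P.Normal := by
    constructor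
    rintro y ⟨hy, hy'⟩ g
    exact ⟨‹N.Normal›.conj_mem y hy g, by rw [conj_pow, hy', mul_one, mul_inv_cancel]⟩
  have hx1 : (x : H) ≠ 1 := by
    intro h
    have hx' : x = 1 := Subtype.ext h
    rw [hx', orderOf_one] at hx
    exact hp.one_lt.ne hx
  have hxP : (x : H) ∈ P := by
    refine ⟨x.2, ?_⟩
    have h2 := pow_orderOf_eq_one x
    rw [hx] at h2
    have h3 := congrArg Subtype.val h2
    rw [Subgroup.coe_pow] at h3
    exact h3
  have hPne : P ≠ ⊥ := by
    intro hbot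
    rw [hbot, Subgroup.mem_bot] at hxP
    exact hx1 hxP
  have htrP := pf_normal_transitive hprim P hPne
  have hne : Nonempty Δ := pf_nonempty hx1
  obtain ⟨δ⟩ := hne
  intro n hn
  obtain ⟨m, hm, hmδ⟩ := htrP δ (n • δ)
  have h1 := pf_eq_of_smul_eq N htr hab hm.1 hn hmδ
  rw [← h1]; exact hm.2

/-- Structure of the Fitting subgroup of a faithful primitive group of non-prime order. -/
theorem pf_main [Finite H] (hprim : IsPreprimitive H Δ) (hHp : ¬ (Nat.card H).Prime) :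
    Subgroup.center H = ⊥ ∧
    (∀ x ∈ Cfsg.fittingSubgroup H, ∀ y ∈ Cfsg.fittingSubgroup H, x * y = y * x) ∧
    ∃ p : ℕ, p.Prime ∧ (∀ x ∈ Cfsg.fittingSubgroup H, x ^ p = 1) ∧
      (Cfsg.fittingSubgroup H ≠ ⊥ →
        (Cfsg.fittingSubgroup H).Normal ∧
        (∀ x y : Δ, ∃ n ∈ Cfsg.fittingSubgroup H, n • x = y) ∧
        (∀ n ∈ Cfsg.fittingSubgroup H, ∀ δ : Δ, n • δ = δ → n = 1) ∧
        (∀ c : H, (∀ n ∈ Cfsg.fittingSubgroup H, c * n = n * c) → c ∈ Cfsg.fittingSubgroup H)) := by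
  have hcenter : Subgroup.center H = ⊥ := by
    by_contra hZ
    exact hHp (pf_center hprim hZ)
  by_cases hF : Cfsg.fittingSubgroup H = ⊥
  · refine ⟨hcenter, ?_, 2, Nat.prime_two, ?_, fun h => absurd hF h⟩
    · intro x hx y hy
      rw [hF, Subgroup.mem_bot] at hx hy
      rw [hx, hy]
    · intro x hx
      rw [hF, Subgroup.mem_bot] at hx
      rw [hx, one_pow]
  · -- find a nontrivial normal nilpotent subgroup
    have hex : ∃ N : Subgroup H, (N.Normal ∧ Group.IsNilpotent N) ∧ N ≠ ⊥ := by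
      by_contra hcon
      push Not at hcon
      apply hF
      unfold Cfsg.fittingSubgroup
      rw [sSup_eq_bot]
      intro N hN
      exact hcon N hN
    obtain ⟨N₀, ⟨hN₀n, hN₀nil⟩, hN₀⟩ := hex
    obtain ⟨htr₀, hab₀⟩ := pf_nilpotent hprim N₀ hN₀nil hN₀
    obtain ⟨x₀, hx₀⟩ := Subgroup.ne_bot_iff_exists_ne_one.mp hN₀
    have hx₀1 : (x₀ : H) ≠ 1 := fun h => hx₀ (Subtype.ext h)
    have hne : Nonempty Δ := pf_nonempty hx₀1
    have hFeq : Cfsg.fittingSubgroup H = N₀ := by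
      apply le_antisymm
      · unfold Cfsg.fittingSubgroup
        apply sSup_le
        rintro N ⟨hNn, hNnil⟩
        by_cases hNb : N = ⊥
        · rw [hNb]; exact bot_le
        · obtain ⟨htr, hab⟩ := pf_nilpotent hprim N hNnil hNb
          exact pf_le_of_transitive_abelian hprim N₀ N htr₀ hab₀ htr hab
      · unfold Cfsg.fittingSubgroup
        exact le_sSup ⟨hN₀n, hN₀nil⟩
    rw [hFeq]
    obtain ⟨p, hp, hexp⟩ := pf_exponent hprim N₀ hN₀ htr₀ hab₀
    refine ⟨hcenter, hab₀, p, hp, hexp, fun _ => ⟨hN₀n, htr₀, ?_, ?_⟩⟩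
    · intro n hn δ hδ
      exact pf_semiregular_of_commute N₀ htr₀ (fun m hm => hab₀ n hn m hm) hδ
    · intro c hc
      exact pf_mem_of_commute N₀ htr₀ hab₀ hc

end PrimFaith

end Cfsg.Agent.Helper19
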