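import Mathlib
import Cfsg.Agent.Helper19.PrimFaith
import Cfsg.Agent.Helper19.MinNormal

set_option autoImplicit false

namespace Cfsg.Agent.Helper19

open MulAction

/-- Every finite group has an isomorphic copy in `Type`. -/
theorem exists_type_zero_group (S : Type*) [Group S] [Finite S] :
    ∃ (T : Type) (_ : Group T), Nonempty (S ≃* T) := by
  have hsmall : Small.{0} S := Countable.toSmall S
  exact ⟨Shrink.{0} S, inferInstance, ⟨(Shrink.mulEquiv (α := S)).symm⟩⟩

/-- `V` is a minimal normal subgroup. -/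
def IsMinNormal {G : Type*} [Group G] (V : Subgroup G) : Prop :=
  V.Normal ∧ V ≠ ⊥ ∧ ∀ M : Subgroup G, M.Normal → M ≤ V → M = ⊥ ∨ M = V

theorem exists_minNormal {G : Type*} [Group G] [Finite G] [Nontrivial G] :
    ∃ V : Subgroup G, IsMinNormal V := by
  let 𝒩 : Set (Subgroup G) := {V | V.Normal ∧ V ≠ ⊥}
  have htop : (⊤ : Subgroup G) ∈ 𝒩 := by
    refine ⟨inferInstance, fun h => ?_⟩
    obtain ⟨x, hx⟩ := exists_ne (1 : G)
    have hmem : x ∈ (⊤ : Subgroup G) := Subgroup.mem_top x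
    rw [h, Subgroup.mem_bot] at hmem
    exact hx hmem
  obtain ⟨V, ⟨hVn, hVne⟩, hVmin⟩ :=
    Set.exists_min_image 𝒩 (fun A => Nat.card A) (Set.toFinite 𝒩) ⟨⊤, htop⟩
  refine ⟨V, hVn, hVne, fun M hMn hMV => ?_⟩
  by_cases hM : M = ⊥
  · exact Or.inl hM
  · right
    exact Subgroup.eq_of_le_of_card_ge hMV (hVmin M ⟨hMn, hM⟩)

theorem minNormal_disjoint {G : Type*} [Group G] {M M' : Subgroup G} (hM : IsMinNormal M)
    (hM' : IsMinNormal M') (hne : M' ≠ M) :
    M ⊓ M' = ⊥ ∧ ∀ a ∈ M, ∀ b ∈ M', a * b = b * a := by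
  obtain ⟨hMn, hMne, hMmin⟩ := hM
  obtain ⟨hM'n, hM'ne, hM'min⟩ := hM'
  have hdisj : M ⊓ M' = ⊥ := by
    rcases hMmin (M ⊓ M') inferInstance inf_le_left with h | h
    · exact h
    · exfalso
      have hle : M ≤ M' := h ▸ inf_le_right
      rcases hM'min M hMn hle with h2 | h2
      · exact hMne h2
      · exact hne h2.symm
  refine ⟨hdisj, fun a ha b hb => ?_⟩
  have h1 : a * b * a⁻¹ * b⁻¹ ∈ M ⊓ M' := by
    refine Subgroup.mem_inf.mpr ⟨?_, ?_⟩
    · have h2 : b * a⁻¹ * b⁻¹ ∈ M := hMn.conj_mem a⁻¹ (inv_mem ha) b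
      have h3 : a * b * a⁻¹ * b⁻¹ = a * (b * a⁻¹ * b⁻¹) := by group
      rw [h3]; exact mul_mem ha h2
    · exact mul_mem (hM'n.conj_mem b hb a) (inv_mem hb)
  rw [hdisj, Subgroup.mem_bot] at h1
  have h4 : a * b = a * b * a⁻¹ * b⁻¹ * (b * a) := by group
  rw [h4, h1, one_mul]

section Prim

variable {G Ω : Type*} [Group G] [Finite G] [MulAction G Ω] [FaithfulSMul G Ω]

/-- Socle of a primitive group with an abelian minimal normal subgroup. -/
theorem socle_abelian (hprim : IsPreprimitive G Ω) (N : Subgroup G)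
    (hN : N = sSup {V : Subgroup G | IsMinNormal V})
    (M : Subgroup G) (hM : IsMinNormal M) (hab : ∀ a ∈ M, ∀ b ∈ M, a * b = b * a) :
    ∃ p : ℕ, p.Prime ∧ (∀ a ∈ N, ∀ b ∈ N, a * b = b * a) ∧ (∀ x ∈ N, x ^ p = 1) ∧
      (∀ x y : Ω, ∃ n ∈ N, n • x = y) ∧ ∀ n ∈ N, ∀ ω : Ω, n • ω = ω → n = 1 := by
  have hM' := hM
  obtain ⟨hMn, hMne, hMmin⟩ := hM
  have htr := pf_normal_transitive hprim M hMne
  obtain ⟨x₀, hx₀⟩ := Subgroup.ne_bot_iff_exists_ne_one.mp hMne
  have hx₀' : (x₀ : G) ≠ 1 := fun h => hx₀ (Subtype.ext h)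
  have hne : Nonempty Ω := pf_nonempty hx₀'
  have huniq : ∀ V : Subgroup G, IsMinNormal V → V = M := by
    intro V hV
    by_contra hVM
    obtain ⟨hdisj, hcomm⟩ := minNormal_disjoint hM' hV hVM
    have hle : V ≤ M := by
      intro v hv
      exact pf_mem_of_commute M htr hab (fun n hn => (hcomm n hn v hv).symm)
    have hVb : V = ⊥ := by
      rw [eq_bot_iff, ← hdisj]
      exact le_inf hle le_rfl
    exact hV.2.1 hVb
  have hNM : N = M := by
    rw [hN]
    apply le_antisymm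
    · apply sSup_le
      intro V hV
      exact (huniq V hV).le
    · exact le_sSup hM'
  rw [hNM]
  obtain ⟨p, hp, hexp⟩ := pf_exponent hprim M hMne htr hab
  exact ⟨p, hp, hab, hexp, htr, fun n hn ω hω =>
    pf_semiregular_of_commute M htr (fun m hm => hab n hn m hm) hω⟩

/-- Socle of a primitive group all of whose minimal normal subgroups are nonabelian. -/
theorem socle_nonabelian (hprim : IsPreprimitive G Ω) (N : Subgroup G)
    (hN : N = sSup {V : Subgroup G | IsMinNormal V})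
    (M : Subgroup G) (hM : IsMinNormal M) (hnab : ¬ ∀ a ∈ M, ∀ b ∈ M, a * b = b * a) :
    ∃ (S : Subgroup G) (ι : Type) (_ : Fintype ι) (_ : Nonempty ι),
      IsSimpleGroup S ∧ (¬ ∀ a b : S, a * b = b * a) ∧ Nonempty (N ≃* (ι → S)) := by
  classical
  have hM' := hM
  obtain ⟨hMn, hMne, hMmin⟩ := hM
  obtain ⟨S, ι, hιf, hιn, hSM, hSs, ⟨eM⟩⟩ := minNormal_structure M hMn hMne hMmin
  have hSnab : ¬ ∀ a b : S, a * b = b * a := by
    intro hc
    apply hnab
    intro a ha b hb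
    have h1 : eM (⟨a, ha⟩ * ⟨b, hb⟩) = eM (⟨b, hb⟩ * ⟨a, ha⟩) := by
      rw [map_mul, map_mul]
      funext i
      exact hc _ _
    exact congrArg Subtype.val (eM.injective h1)
  by_cases huniq : ∀ V : Subgroup G, IsMinNormal V → V = M
  · have hNM : N = M := by
      rw [hN]
      apply le_antisymm
      · apply sSup_le
        intro V hV
        exact (huniq V hV).le
      · exact le_sSup hM'
    exact ⟨S, ι, hιf, hιn, hSs, hSnab, ⟨(MulEquiv.subgroupCongr hNM).trans eM⟩⟩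
  · push Not at huniq
    obtain ⟨M₂, hM₂, hM₂ne⟩ := huniq
    obtain ⟨hdisj, hcomm⟩ := minNormal_disjoint hM' hM₂ hM₂ne
    have hM₂n : M₂.Normal := hM₂.1
    have htr₁ := pf_normal_transitive hprim M hMne
    have htr₂ := pf_normal_transitive hprim M₂ hM₂.2.1
    obtain ⟨x₀, hx₀⟩ := Subgroup.ne_bot_iff_exists_ne_one.mp hMne
    have hx₀' : (x₀ : G) ≠ 1 := fun h => hx₀ (Subtype.ext h)
    have hne : Nonempty Ω := pf_nonempty hx₀'
    obtain ⟨δ⟩ := hne
    have hsr₁ : ∀ a ∈ M, ∀ ω : Ω, a • ω = ω → a = 1 := fun a ha ω hω =>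
      pf_semiregular_of_commute M₂ htr₂ (fun n hn => hcomm a ha n hn) hω
    have hsr₂ : ∀ b ∈ M₂, ∀ ω : Ω, b • ω = ω → b = 1 := fun b hb ω hω =>
      pf_semiregular_of_commute M htr₁ (fun n hn => (hcomm n hn b hb).symm) hω
    have heq₂ : ∀ b ∈ M₂, ∀ b' ∈ M₂, b • δ = b' • δ → b = b' := by
      intro b hb b' hb' h
      have h1 : (b'⁻¹ * b) • δ = δ := by rw [mul_smul, h, inv_smul_smul]
      have h2 := hsr₂ _ (mul_mem (inv_mem hb') hb) δ h1
      exact (inv_mul_eq_one.mp h2).symm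
    have hthird : ∀ V : Subgroup G, IsMinNormal V → V = M ∨ V = M₂ := by
      intro V hV
      by_cases hVM : V = M
      · exact Or.inl hVM
      right
      obtain ⟨-, hcommV⟩ := minNormal_disjoint hM' hV hVM
      have hle : V ≤ M₂ := by
        intro v hv
        obtain ⟨b, hb, hbδ⟩ := htr₂ δ (v • δ)
        have h1 : (b⁻¹ * v) • δ = δ := by rw [mul_smul, ← hbδ, inv_smul_smul]
        have h2 : b⁻¹ * v = 1 := by
          apply pf_semiregular_of_commute M htr₁ _ h1
          intro n hn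
          calc b⁻¹ * v * n = b⁻¹ * (v * n) := mul_assoc _ _ _
            _ = b⁻¹ * (n * v) := by rw [hcommV n hn v hv]
            _ = (b⁻¹ * n) * v := (mul_assoc _ _ _).symm
            _ = (n * b⁻¹) * v := by rw [hcomm n hn b⁻¹ (inv_mem hb)]
            _ = n * (b⁻¹ * v) := mul_assoc _ _ _
        have h3 : v = b := (inv_mul_eq_one.mp h2).symm
        rw [h3]; exact hb
      rcases hM₂.2.2 V hV.1 hle with h | h
      · exact absurd h hV.2.1
      · exact h
    have hNsup : N = M ⊔ M₂ := by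
      rw [hN]
      apply le_antisymm
      · apply sSup_le
        intro V hV
        rcases hthird V hV with h | h
        · rw [h]; exact le_sup_left
        · rw [h]; exact le_sup_right
      · exact sup_le (le_sSup hM') (le_sSup hM₂)
    obtain ⟨P, hPmem, ⟨eP⟩⟩ := exists_prod_subgroup M M₂ hcomm hdisj
    have hNP : N = P := by
      rw [hNsup]
      apply le_antisymm
      · apply sup_le
        · intro a ha
          exact (hPmem a).mpr ⟨a, ha, 1, one_mem _, (mul_one a).symm⟩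
        · intro b hb
          exact (hPmem b).mpr ⟨1, one_mem _, b, hb, (one_mul b).symm⟩
      · intro x hx
        obtain ⟨a, ha, b, hb, rfl⟩ := (hPmem x).mp hx
        exact mul_mem (Subgroup.mem_sup_left ha) (Subgroup.mem_sup_right hb)
    have hch : ∀ x : M, ∃ y : M₂, (y : G) • δ = (x : G)⁻¹ • δ := by
      intro x
      obtain ⟨b, hb, hbδ⟩ := htr₂ δ ((x : G)⁻¹ • δ)
      exact ⟨⟨b, hb⟩, hbδ⟩
    choose f hf using hch
    have hfmul : ∀ x x' : M, f (x * x') = f x * f x' := by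
      intro x x'
      apply Subtype.ext
      apply heq₂ _ (f (x * x')).2 _ (f x * f x').2
      rw [hf (x * x')]
      show ((x : G) * (x' : G))⁻¹ • δ = ((f x : G) * (f x' : G)) • δ
      rw [mul_smul, hf x', ← mul_smul, ← hcomm _ (inv_mem x'.2) _ (f x).2, mul_smul, hf x,
        ← mul_smul, mul_inv_rev]
    have hfinj : Function.Injective f := by
      intro x x' h
      have h1 : (x : G)⁻¹ • δ = (x' : G)⁻¹ • δ := by rw [← hf x, ← hf x', h]
      have h2 : ((x' : G) * (x : G)⁻¹) • δ = δ := by rw [mul_smul, h1, smul_inv_smul]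
      have h3 := hsr₁ _ (mul_mem x'.2 (inv_mem x.2)) δ h2
      exact Subtype.ext (mul_inv_eq_one.mp h3).symm
    have hfsurj : Function.Surjective f := by
      intro y
      obtain ⟨a, ha, haδ⟩ := htr₁ δ ((y : G) • δ)
      refine ⟨⟨a⁻¹, inv_mem ha⟩, ?_⟩
      apply Subtype.ext
      apply heq₂ _ (f ⟨a⁻¹, inv_mem ha⟩).2 _ y.2
      rw [hf]
      show (a⁻¹)⁻¹ • δ = (y : G) • δ
      rw [inv_inv, haδ]
    let eMM : M ≃* M₂ := MulEquiv.ofBijective (MonoidHom.mk' f hfmul) ⟨hfinj, hfsurj⟩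
    exact ⟨S, ι ⊕ ι, inferInstance, inferInstance, hSs, hSnab,
      ⟨(MulEquiv.subgroupCongr hNP).trans (eP.trans
        ((MulEquiv.prodCongr eM (eMM.symm.trans eM)).trans (piSumMulEquiv ι ι S)))⟩⟩

end Prim

end Cfsg.Agent.Helper19
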