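import Mathlib
import Cfsg.Agent.Helper19.Derange
import Cfsg.Agent.Helper19.DerInv
import Cfsg.Agent.Helper19.PrimFaith
import Cfsg.Agent.Helper19.MinNormal
import Cfsg.Agent.Helper19.Socle

set_option autoImplicit false

namespace Cfsg.Agent.Helper19

open MulAction

open scoped Classical

/-- Jordan: a transitive finite group on at least two points contains a derangement. -/
theorem exists_der {G Ω : Type*} [Group G] [Finite G] [MulAction G Ω] [Finite Ω]
    (htr : IsPretransitive G Ω) (hΩ : 2 ≤ Nat.card Ω) : ∃ g : G, ∀ ω : Ω, g • ω ≠ ω := by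
  by_contra hcon
  push Not at hcon
  have hbot : derSub G Ω = ⊥ := by
    unfold derSub
    have hemp : {g : G | ∀ ω : Ω, g • ω ≠ ω} = ∅ := by
      rw [Set.eq_empty_iff_forall_notMem]
      intro g hg
      obtain ⟨ω, hω⟩ := hcon g
      exact hg ω hω
    rw [hemp, Subgroup.closure_empty]
  have htr' := (derSub_core htr).1
  have hnt : Nontrivial Ω := by
    rw [← Finite.one_lt_card_iff_nontrivial]
    omega
  obtain ⟨a, b, hab⟩ := exists_pair_ne Ω
  obtain ⟨g, hg⟩ := htr'.exists_smul_eq a b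
  have hg1 : (g : G) = 1 := by
    have h : (g : G) ∈ derSub G Ω := g.2
    have h' : (g : G) ∈ (⊥ : Subgroup G) := by
      rw [← hbot]
      exact h
    exact Subgroup.mem_bot.mp h'
  apply hab
  rw [← hg, Subgroup.smul_def, hg1, one_smul]

theorem der_conj {G Ω : Type*} [Group G] [MulAction G Ω] {x : G} (hx : ∀ ω : Ω, x • ω ≠ ω)
    (g : G) : ∀ ω : Ω, (g * x * g⁻¹) • ω ≠ ω := by
  intro ω h
  apply hx (g⁻¹ • ω)
  rw [mul_smul, mul_smul] at h
  rw [smul_eq_iff_eq_inv_smul] at h
  exact h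

/-- One class of derangements, unfolded. -/
theorem der_class_iff {G Ω : Type*} [Group G] [MulAction G Ω] :
    Nat.card {c : ConjClasses G // ∃ g : G, ConjClasses.mk g = c ∧ ∀ ω : Ω, g • ω ≠ ω} = 1 ↔
      (∃ x : G, ∀ ω : Ω, x • ω ≠ ω) ∧
        ∀ x y : G, (∀ ω : Ω, x • ω ≠ ω) → (∀ ω : Ω, y • ω ≠ ω) → IsConj x y := by
  rw [Nat.card_eq_one_iff_unique]
  constructor
  · rintro ⟨hsub, ⟨⟨c, g, hg, hder⟩⟩⟩
    refine ⟨⟨g, hder⟩, fun x y hx hy => ?_⟩
    have h := hsub.elim ⟨ConjClasses.mk x, x, rfl, hx⟩ ⟨ConjClasses.mk y, y, rfl, hy⟩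
    exact ConjClasses.mk_eq_mk_iff_isConj.mp (congrArg Subtype.val h)
  · rintro ⟨⟨x, hx⟩, hall⟩
    refine ⟨⟨?_⟩, ⟨⟨ConjClasses.mk x, x, rfl, hx⟩⟩⟩
    rintro ⟨c, g, rfl, hg⟩ ⟨c', g', rfl, hg'⟩
    apply Subtype.ext
    exact ConjClasses.mk_eq_mk_iff_isConj.mpr (hall g g' hg hg')

/-- Sharply 2-transitive groups have a single class of derangements. -/
theorem der_one_class_of_sharp {G Ω : Type*} [Group G] [Finite G] [Fintype Ω] [MulAction G Ω]
    (hΩ : 2 ≤ Fintype.card Ω)
    (h2 : IsMultiplyPretransitive G Ω 2)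
    (hsharp : ∀ g : G, g ≠ 1 → ∀ a b : Ω, a ≠ b → g • a = a → g • b ≠ b) :
    (∃ x : G, ∀ ω : Ω, x • ω ≠ ω) ∧
      ∀ x y : G, (∀ ω : Ω, x • ω ≠ ω) → (∀ ω : Ω, y • ω ≠ ω) → IsConj x y := by
  have := Fintype.ofFinite G
  have hnt : Nontrivial Ω := by
    rw [← Fintype.one_lt_card_iff_nontrivial]
    omega
  obtain ⟨α⟩ : Nonempty Ω := inferInstance
  rw [is_two_pretransitive_iff] at h2
  have htr : IsPretransitive G Ω := by
    refine ⟨fun a b => ?_⟩
    by_cases hab : a = b
    · exact ⟨1, by rw [one_smul, hab]⟩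
    · obtain ⟨g, hg, -⟩ := h2 hab (Ne.symm hab)
      exact ⟨g, hg⟩
  have hDcard : (Finset.univ.filter (fun g : G => ∀ ω : Ω, g • ω ≠ ω)).card
      = Fintype.card Ω - 1 := by
    have hsum := sum_fixCount (G := G) (Ω := Ω) htr
    have hpt : ∀ g : G, fixCount Ω g + (if (∀ ω : Ω, g • ω ≠ ω) then 1 else 0)
        = 1 + (if g = 1 then Fintype.card Ω - 1 else 0) := by
      intro g
      by_cases hg1 : g = 1
      · subst hg1
        have h1 : fixCount Ω (1 : G) = Fintype.card Ω := by
          unfold fixCount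
          rw [Finset.filter_true_of_mem (fun ω _ => one_smul G ω), Finset.card_univ]
        have h2 : ¬ (∀ ω : Ω, (1 : G) • ω ≠ ω) := fun h => h α (one_smul G α)
        rw [h1, if_neg h2, if_pos rfl]
        omega
      · rw [if_neg hg1]
        by_cases hder : ∀ ω : Ω, g • ω ≠ ω
        · have h1 : fixCount Ω g = 0 := by
            unfold fixCount
            rw [Finset.card_eq_zero, Finset.filter_eq_empty_iff]
            intro ω _
            exact hder ω
          rw [h1, if_pos hder]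
        · have h1 : fixCount Ω g = 1 := by
            unfold fixCount
            apply le_antisymm
            · by_contra hlt
              push Not at hlt
              obtain ⟨a, ha, b, hb, hab⟩ := Finset.one_lt_card.mp hlt
              rw [Finset.mem_filter] at ha hb
              exact hsharp g hg1 a b hab ha.2 hb.2
            · push Not at hder
              obtain ⟨ω, hω⟩ := hder
              exact Finset.card_pos.mpr
                ⟨ω, Finset.mem_filter.mpr ⟨Finset.mem_univ _, hω⟩⟩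
          rw [h1, if_neg hder]
    have hsum2 : ∑ g : G, (fixCount Ω g + (if (∀ ω : Ω, g • ω ≠ ω) then 1 else 0))
        = ∑ g : G, (1 + (if g = 1 then Fintype.card Ω - 1 else 0)) :=
      Finset.sum_congr rfl (fun g _ => hpt g)
    have e1 : ∑ g : G, (fixCount Ω g + (if (∀ ω : Ω, g • ω ≠ ω) then 1 else 0))
        = Fintype.card G + (Finset.univ.filter (fun g : G => ∀ ω : Ω, g • ω ≠ ω)).card := by
      rw [Finset.sum_add_distrib, hsum, Finset.card_filter]
    have e2 : ∑ g : G, (1 + (if g = 1 then Fintype.card Ω - 1 else 0))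
        = Fintype.card G + (Fintype.card Ω - 1) := by
      simp [Finset.sum_add_distrib]
    rw [e1, e2] at hsum2
    omega
  have hDpos : 0 < (Finset.univ.filter (fun g : G => ∀ ω : Ω, g • ω ≠ ω)).card := by
    rw [hDcard]
    omega
  obtain ⟨x, hxD⟩ := Finset.card_pos.mp hDpos
  have hx : ∀ ω : Ω, x • ω ≠ ω := (Finset.mem_filter.mp hxD).2
  refine ⟨⟨x, hx⟩, ?_⟩
  have key : ∀ y : G, (∀ ω : Ω, y • ω ≠ ω) → IsConj x y := by
    have hβ : x • α ≠ α := hx α
    have hch : ∀ γ : Ω, γ ≠ α → ∃ h : G, h • α = α ∧ h • (x • α) = γ := by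
      intro γ hγ
      exact h2 (Ne.symm hβ) (Ne.symm hγ)
    choose! h hh using hch
    have hval : ∀ γ : Ω, γ ≠ α → (h γ * x * (h γ)⁻¹) • α = γ := by
      intro γ hγ
      obtain ⟨h1, h2⟩ := hh γ hγ
      rw [mul_smul, mul_smul, inv_smul_eq_iff.mpr h1.symm, h2]
    have hinj : Set.InjOn (fun γ => h γ * x * (h γ)⁻¹)
        ((Finset.univ.erase α : Finset Ω) : Set Ω) := by
      intro γ hγ δ hδ heq
      have hγ' : γ ≠ α := (Finset.mem_erase.mp (Finset.mem_coe.mp hγ)).1
      have hδ' : δ ≠ α := (Finset.mem_erase.mp (Finset.mem_coe.mp hδ)).1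
      have heq' : h γ * x * (h γ)⁻¹ = h δ * x * (h δ)⁻¹ := heq
      calc γ = (h γ * x * (h γ)⁻¹) • α := (hval γ hγ').symm
        _ = (h δ * x * (h δ)⁻¹) • α := by rw [heq']
        _ = δ := hval δ hδ'
    have himg : (Finset.univ.erase α).image (fun γ => h γ * x * (h γ)⁻¹)
        = Finset.univ.filter (fun g : G => ∀ ω : Ω, g • ω ≠ ω) := by
      apply Finset.eq_of_subset_of_card_le
      · intro c hc
        rw [Finset.mem_image] at hc
        obtain ⟨γ, hγ, rfl⟩ := hc
        rw [Finset.mem_filter]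
        exact ⟨Finset.mem_univ _, der_conj hx (h γ)⟩
      · rw [Finset.card_image_of_injOn hinj, Finset.card_erase_of_mem (Finset.mem_univ α),
          Finset.card_univ, hDcard]
    intro y hy
    have hyD : y ∈ Finset.univ.filter (fun g : G => ∀ ω : Ω, g • ω ≠ ω) :=
      Finset.mem_filter.mpr ⟨Finset.mem_univ _, hy⟩
    rw [← himg, Finset.mem_image] at hyD
    obtain ⟨γ, -, rfl⟩ := hyD
    exact isConj_iff.mpr ⟨h γ, rfl⟩
  intro y z hy hz
  exact (key y hy).symm.trans (key z hz)

section DerPrim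

variable {G Ω : Type*} [Group G] [Finite G] [Fintype Ω] [MulAction G Ω] [FaithfulSMul G Ω]

/-- If all derangements are conjugate, every non-trivial normal subgroup contains them. -/
theorem der_mem_normal (hΩ : 2 ≤ Fintype.card Ω) (hprim : IsPreprimitive G Ω)
    (hconj : ∀ x y : G, (∀ ω : Ω, x • ω ≠ ω) → (∀ ω : Ω, y • ω ≠ ω) → IsConj x y)
    (N : Subgroup G) [N.Normal] (hN : N ≠ ⊥) (y : G) (hy : ∀ ω : Ω, y • ω ≠ ω) : y ∈ N := by
  have htrN := pf_normal_transitive hprim N hN
  have htr' : IsPretransitive N Ω :=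
    ⟨fun a b => by
      obtain ⟨n, hn, h⟩ := htrN a b
      exact ⟨⟨n, hn⟩, h⟩⟩
  obtain ⟨n, hn⟩ := exists_der htr' (by rw [Nat.card_eq_fintype_card]; exact hΩ)
  obtain ⟨c, hc⟩ := isConj_iff.mp (hconj (n : G) y hn hy)
  rw [← hc]
  exact ‹N.Normal›.conj_mem _ n.2 c

/-- The abelian case: the group is sharply 2-transitive. -/
theorem der_sharp_of_abelian (hΩ : 2 ≤ Fintype.card Ω) (hprim : IsPreprimitive G Ω)
    (hconj : ∀ x y : G, (∀ ω : Ω, x • ω ≠ ω) → (∀ ω : Ω, y • ω ≠ ω) → IsConj x y)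
    (M : Subgroup G) [M.Normal] (hM : M ≠ ⊥) (hab : ∀ a ∈ M, ∀ b ∈ M, a * b = b * a) :
    IsMultiplyPretransitive G Ω 2 ∧
      ∀ g : G, g ≠ 1 → ∀ a b : Ω, a ≠ b → g • a = a → g • b ≠ b := by
  have := Fintype.ofFinite G
  have hnt : Nontrivial Ω := by
    rw [← Fintype.one_lt_card_iff_nontrivial]
    omega
  obtain ⟨α⟩ : Nonempty Ω := inferInstance
  have htrM := pf_normal_transitive hprim M hM
  have hsemi : ∀ m ∈ M, ∀ ω : Ω, m • ω = ω → m = 1 := fun m hm ω hω =>
    pf_semiregular_of_commute M htrM (fun n hn => hab m hm n hn) hω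
  have hDM : ∀ y : G, (∀ ω : Ω, y • ω ≠ ω) → y ∈ M := der_mem_normal hΩ hprim hconj M hM
  have hMD : ∀ m ∈ M, m ≠ 1 → ∀ ω : Ω, m • ω ≠ ω := fun m hm hm1 ω hω =>
    hm1 (hsemi m hm ω hω)
  have htr : IsPretransitive G Ω := hprim.toIsPretransitive
  have hstab : ∀ b d : Ω, b ≠ α → d ≠ α → ∃ h : G, h • α = α ∧ h • b = d := by
    intro b d hb hd
    obtain ⟨u, hu, hub⟩ := htrM α b
    obtain ⟨v, hv, hvd⟩ := htrM α d
    have hu1 : u ≠ 1 := by
      rintro rfl
      rw [one_smul] at hub
      exact hb hub.symm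
    have hv1 : v ≠ 1 := by
      rintro rfl
      rw [one_smul] at hvd
      exact hd hvd.symm
    obtain ⟨g, hg⟩ := isConj_iff.mp (hconj u v (hMD u hu hu1) (hMD v hv hv1))
    obtain ⟨m, hm, hmg⟩ := htrM α (g • α)
    have key : ∀ h : G, h • α = α → h * u * h⁻¹ = v → h • b = d := by
      intro h hα hc
      rw [← hub, ← hvd, ← hc, mul_smul, mul_smul, inv_smul_eq_iff.mpr hα.symm]
    have hfix : (m⁻¹ * g) • α = α := by
      rw [mul_smul, ← hmg, inv_smul_smul]
    refine ⟨m⁻¹ * g, hfix, key _ hfix ?_⟩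
    have h1 : (m⁻¹ * g) * u * (m⁻¹ * g)⁻¹ = m⁻¹ * (g * u * g⁻¹) * m := by group
    rw [h1, hg, hab m⁻¹ (M.inv_mem hm) v hv, mul_assoc, inv_mul_cancel, mul_one]
  have h2t : IsMultiplyPretransitive G Ω 2 := by
    rw [is_two_pretransitive_iff]
    intro a b c d hab' hcd
    obtain ⟨g₁, hg₁⟩ := htr.exists_smul_eq a α
    obtain ⟨g₂, hg₂⟩ := htr.exists_smul_eq c α
    have hb : g₁ • b ≠ α := by
      intro h
      rw [← hg₁] at h
      exact hab' (smul_left_cancel g₁ h).symm
    have hd : g₂ • d ≠ α := by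
      intro h
      rw [← hg₂] at h
      exact hcd (smul_left_cancel g₂ h).symm
    obtain ⟨h, hα, hbd⟩ := hstab (g₁ • b) (g₂ • d) hb hd
    refine ⟨g₂⁻¹ * h * g₁, ?_, ?_⟩
    · rw [mul_smul, mul_smul, hg₁, hα, inv_smul_eq_iff, hg₂]
    · rw [mul_smul, mul_smul, hbd, inv_smul_smul]
  refine ⟨h2t, ?_⟩
  have hDcard : (Finset.univ.filter (fun g : G => ∀ ω : Ω, g • ω ≠ ω)).card
      = Fintype.card Ω - 1 := by
    rw [← Finset.card_univ, ← Finset.card_erase_of_mem (Finset.mem_univ α)]
    apply Finset.card_bij (fun y _ => y • α)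
    · intro y hy
      rw [Finset.mem_filter] at hy
      rw [Finset.mem_erase]
      exact ⟨hy.2 α, Finset.mem_univ _⟩
    · intro y hy y' hy' heq
      rw [Finset.mem_filter] at hy hy'
      exact pf_eq_of_smul_eq M htrM hab (hDM y hy.2) (hDM y' hy'.2) heq
    · intro γ hγ
      rw [Finset.mem_erase] at hγ
      obtain ⟨m, hm, hmγ⟩ := htrM α γ
      have hm1 : m ≠ 1 := by
        rintro rfl
        rw [one_smul] at hmγ
        exact hγ.1 hmγ.symm
      exact ⟨m, Finset.mem_filter.mpr ⟨Finset.mem_univ _, hMD m hm hm1⟩, hmγ⟩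
  have hsum := sum_fixCount (G := G) (Ω := Ω) htr
  have hle : ∀ g ∈ (Finset.univ : Finset G),
      ((if (∀ ω : Ω, g • ω ≠ ω) then 0 else 1) + (if g = 1 then Fintype.card Ω - 1 else 0))
        ≤ fixCount Ω g := by
    intro g _
    by_cases hg1 : g = 1
    · subst hg1
      have h1 : fixCount Ω (1 : G) = Fintype.card Ω := by
        unfold fixCount
        rw [Finset.filter_true_of_mem (fun ω _ => one_smul G ω), Finset.card_univ]
      have h2 : ¬ (∀ ω : Ω, (1 : G) • ω ≠ ω) := fun h => h α (one_smul G α)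
      rw [h1, if_neg h2, if_pos rfl]
      omega
    · rw [if_neg hg1, add_zero]
      by_cases hder : ∀ ω : Ω, g • ω ≠ ω
      · rw [if_pos hder]
        exact Nat.zero_le _
      · rw [if_neg hder]
        push Not at hder
        obtain ⟨ω, hω⟩ := hder
        exact Finset.card_pos.mpr ⟨ω, Finset.mem_filter.mpr ⟨Finset.mem_univ _, hω⟩⟩
  have hsumeq : ∑ g : G, ((if (∀ ω : Ω, g • ω ≠ ω) then 0 else 1)
      + (if g = 1 then Fintype.card Ω - 1 else 0)) = ∑ g : G, fixCount Ω g := by
    rw [hsum, Finset.sum_add_distrib]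
    have e1 : ∑ g : G, (if (∀ ω : Ω, g • ω ≠ ω) then 0 else 1)
        + (Finset.univ.filter (fun g : G => ∀ ω : Ω, g • ω ≠ ω)).card = Fintype.card G := by
      rw [Finset.card_filter, ← Finset.sum_add_distrib, Fintype.card_eq_sum_ones]
      apply Finset.sum_congr rfl
      intro g _
      split_ifs <;> rfl
    have e2 : ∑ g : G, (if g = 1 then Fintype.card Ω - 1 else 0) = Fintype.card Ω - 1 := by
      simp
    rw [e2]
    omega
  have hall := (Finset.sum_eq_sum_iff_of_le hle).mp hsumeq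
  intro g hg1 a b hab' ha hb
  have hg := hall g (Finset.mem_univ g)
  rw [if_neg hg1, add_zero] at hg
  have hnd : ¬ (∀ ω : Ω, g • ω ≠ ω) := fun h => h a ha
  rw [if_neg hnd] at hg
  have h2 : 1 < fixCount Ω g := by
    unfold fixCount
    rw [Finset.one_lt_card]
    exact ⟨a, Finset.mem_filter.mpr ⟨Finset.mem_univ _, ha⟩, b,
      Finset.mem_filter.mpr ⟨Finset.mem_univ _, hb⟩, hab'⟩
  omega

end DerPrim

/-- A faithful transitive group isomorphic to a power `S^ι` (`S` non-abelian simple,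
`ι` with two distinct indices) has derangements that are not related by an automorphism. -/
theorem der_prod_aux {M Ω S ι : Type*} [Group M] [Finite M] [MulAction M Ω] [Group S] [Finite S]
    [Fintype ι] (ψ : M ≃* (ι → S)) (hS : IsSimpleGroup S) (hnab : ∃ a b : S, a * b ≠ b * a)
    (i₁ i₂ : ι) (h12 : i₁ ≠ i₂) (α : Ω)
    (htr : ∀ ω : Ω, ∃ m : M, m • α = ω)
    (hfaith : ∀ m : M, (∀ ω : Ω, m • ω = ω) → m = 1)
    (hconj : ∀ x y : M, (∀ ω : Ω, x • ω ≠ ω) → (∀ ω : Ω, y • ω ≠ ω) → ∃ θ : M ≃* M, θ x = y) :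
    False := by
  have hcen : ∀ t : S, t ≠ 1 → ∃ s : S, s * t ≠ t * s := by
    intro t ht
    by_contra hcon
    push Not at hcon
    have htc : t ∈ Subgroup.center S := by
      rw [Subgroup.mem_center_iff]
      intro s
      exact hcon s
    rcases (inferInstance : (Subgroup.center S).Normal).eq_bot_or_eq_top with hbot | htop
    · rw [hbot, Subgroup.mem_bot] at htc
      exact ht htc
    · obtain ⟨a, b, hab⟩ := hnab
      have ha : a ∈ Subgroup.center S := by
        rw [htop]
        exact Subgroup.mem_top _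
      rw [Subgroup.mem_center_iff] at ha
      exact hab (ha b).symm
  obtain ⟨σ, hσ⟩ : ∃ σ : S →* M, ∀ s, ψ (σ s) = Pi.mulSingle i₁ s :=
    ⟨ψ.symm.toMonoidHom.comp (MonoidHom.mulSingle (fun _ : ι => S) i₁),
      fun s => ψ.apply_symm_apply _⟩
  have hσinj : Function.Injective σ := by
    intro a b hab
    have h := congrArg ψ hab
    rw [hσ, hσ] at h
    have h' := congrFun h i₁
    rwa [Pi.mulSingle_eq_same, Pi.mulSingle_eq_same] at h'
  have hF2 : ∀ (m : M) (s : S), m * σ s * m⁻¹ = σ (ψ m i₁ * s * (ψ m i₁)⁻¹) := by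
    intro m s
    apply ψ.injective
    have e1 : ψ (m * σ s * m⁻¹) = ψ m * Pi.mulSingle i₁ s * (ψ m)⁻¹ := by
      rw [map_mul, map_mul, map_inv, hσ]
    rw [e1, hσ]
    funext i
    by_cases hi : i = i₁
    · rw [hi]
      simp only [Pi.mul_apply, Pi.inv_apply, Pi.mulSingle_eq_same]
    · simp only [Pi.mul_apply, Pi.inv_apply, Pi.mulSingle_eq_of_ne hi, mul_one, mul_inv_cancel]
  obtain ⟨P, hPdef⟩ : ∃ P : Subgroup S, ∀ r, r ∈ P ↔ ∃ m : M, m • α = α ∧ ψ m i₁ = r := by
    refine ⟨(MulAction.stabilizer M α).map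
      ((Pi.evalMonoidHom (fun _ : ι => S) i₁).comp ψ.toMonoidHom), fun r => ?_⟩
    rw [Subgroup.mem_map]
    constructor
    · rintro ⟨m, hm, rfl⟩
      exact ⟨m, MulAction.mem_stabilizer_iff.mp hm, rfl⟩
    · rintro ⟨m, hm, rfl⟩
      exact ⟨m, MulAction.mem_stabilizer_iff.mpr hm, rfl⟩
  by_cases hP : P = ⊤
  · -- the projection of the stabilizer is everything
    have hsurj : ∀ r : S, ∃ m : M, m • α = α ∧ ψ m i₁ = r := by
      intro r
      have hr : r ∈ P := by
        rw [hP]
        exact Subgroup.mem_top r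
      exact (hPdef r).mp hr
    obtain ⟨N₁, hN₁def⟩ : ∃ N₁ : Subgroup S, ∀ s, s ∈ N₁ ↔ σ s • α = α :=
      ⟨(MulAction.stabilizer M α).comap σ, fun s => Iff.rfl⟩
    have hN₁ : N₁.Normal := by
      constructor
      intro s hs r
      obtain ⟨m, hmα, hmr⟩ := hsurj r
      have h1 : σ (r * s * r⁻¹) = m * σ s * m⁻¹ := by rw [hF2, hmr]
      rw [hN₁def] at hs ⊢
      rw [h1, mul_smul, mul_smul, inv_smul_eq_iff.mpr hmα.symm, hs, hmα]
    have hfix : ∀ (s : S) (m : M),
        σ s • (m • α) = m • α ↔ ψ m⁻¹ i₁ * s * (ψ m⁻¹ i₁)⁻¹ ∈ N₁ := by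
      intro s m
      have h1 : σ s • (m • α) = m • ((m⁻¹ * σ s * m⁻¹⁻¹) • α) := by
        have e : σ s * m = m * (m⁻¹ * σ s * m⁻¹⁻¹) := by group
        calc σ s • (m • α) = (σ s * m) • α := (mul_smul _ _ _).symm
          _ = (m * (m⁻¹ * σ s * m⁻¹⁻¹)) • α := by rw [e]
          _ = m • ((m⁻¹ * σ s * m⁻¹⁻¹) • α) := mul_smul _ _ _
      rw [h1, hF2, hN₁def]
      constructor
      · intro h
        exact smul_left_cancel m h
      · intro h
        rw [h]
    rcases hN₁.eq_bot_or_eq_top with hbot | htop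
    · have hder : ∀ s : S, s ≠ 1 → ∀ ω : Ω, σ s • ω ≠ ω := by
        intro s hs ω hω
        obtain ⟨m, rfl⟩ := htr ω
        have h := (hfix s m).mp hω
        rw [hbot, Subgroup.mem_bot] at h
        exact hs (conj_eq_one_iff.mp h)
      have hord : ∀ s s' : S, s ≠ 1 → s' ≠ 1 → orderOf s = orderOf s' := by
        intro s s' hs hs'
        obtain ⟨θ, hθ⟩ := hconj (σ s) (σ s') (hder s hs) (hder s' hs')
        rw [← orderOf_injective σ hσinj s, ← orderOf_injective σ hσinj s', ← hθ,
          MulEquiv.orderOf_eq]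
      have hSnt : Nontrivial S := hS.toNontrivial
      have hcard1 : Nat.card S ≠ 1 := by
        have := Finite.one_lt_card (α := S)
        omega
      obtain ⟨p, hp, hpdvd⟩ := Nat.exists_prime_and_dvd hcard1
      have hpf : Fact p.Prime := ⟨hp⟩
      obtain ⟨x₀, hx₀⟩ := exists_prime_orderOf_dvd_card' p hpdvd
      have hx₀1 : x₀ ≠ 1 := by
        rintro rfl
        rw [orderOf_one] at hx₀
        exact hp.ne_one hx₀.symm
      have hpg : IsPGroup p S := by
        intro s
        refine ⟨1, ?_⟩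
        by_cases hs : s = 1
        · rw [hs, one_pow]
        · rw [pow_one, ← hx₀, ← hord s x₀ hs hx₀1]
          exact pow_orderOf_eq_one s
      have hcn := hpg.center_nontrivial
      obtain ⟨z, hz⟩ := exists_ne (1 : Subgroup.center S)
      have hz1 : (z : S) ≠ 1 := fun h => hz (Subtype.ext h)
      obtain ⟨s, hs⟩ := hcen z hz1
      exact hs (Subgroup.mem_center_iff.mp z.2 s)
    · have hall : ∀ s : S, σ s = 1 := by
        intro s
        apply hfaith
        intro ω
        obtain ⟨m, rfl⟩ := htr ω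
        rw [hfix s m, htop]
        exact Subgroup.mem_top _
      obtain ⟨a, b, hab⟩ := hnab
      have ha : a = 1 := hσinj ((hall a).trans (map_one σ).symm)
      have hb : b = 1 := hσinj ((hall b).trans (map_one σ).symm)
      exact hab (by rw [ha, hb])
  · -- the projection of the stabilizer is proper
    have hidx : 2 ≤ Nat.card (S ⧸ P) := by
      have h1 : P.index ≠ 1 := fun h => hP (Subgroup.index_eq_one.mp h)
      have h0 : P.index ≠ 0 := Subgroup.index_ne_zero_of_finite
      have h3 : P.index = Nat.card (S ⧸ P) := rfl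
      omega
    obtain ⟨t, ht⟩ := exists_der (G := S) (Ω := S ⧸ P) inferInstance hidx
    have htP : ∀ r : S, r⁻¹ * t * r ∉ P := by
      intro r hr
      apply ht (r : S ⧸ P)
      show ((t * r : S) : S ⧸ P) = (r : S ⧸ P)
      rw [QuotientGroup.eq]
      have e : (t * r)⁻¹ * r = (r⁻¹ * t * r)⁻¹ := by group
      rw [e]
      exact P.inv_mem hr
    have ht1 : t ≠ 1 := by
      intro h
      apply htP 1
      rw [h, inv_one, one_mul, mul_one]
      exact P.one_mem
    have hder : ∀ x : M, ψ x i₁ = t → ∀ ω : Ω, x • ω ≠ ω := by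
      intro x hx ω hω
      obtain ⟨m, rfl⟩ := htr ω
      apply htP (ψ m i₁)
      rw [hPdef]
      refine ⟨m⁻¹ * x * m, ?_, ?_⟩
      · rw [mul_smul, mul_smul, hω, inv_smul_smul]
      · rw [map_mul, map_mul, map_inv, Pi.mul_apply, Pi.mul_apply, Pi.inv_apply, hx]
    obtain ⟨s, hs⟩ := hcen t ht1
    obtain ⟨x', hx'⟩ : ∃ x' : M, ψ x' = Pi.mulSingle i₁ t * Pi.mulSingle i₂ t :=
      ⟨ψ.symm _, ψ.apply_symm_apply _⟩
    obtain ⟨m₀, hm₀def⟩ : ∃ m₀ : M, ψ m₀ = Pi.mulSingle i₂ s :=
      ⟨ψ.symm _, ψ.apply_symm_apply _⟩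
    have hxder := hder (σ t) (by rw [hσ, Pi.mulSingle_eq_same])
    have hx'der := hder x' (by
      rw [hx', Pi.mul_apply, Pi.mulSingle_eq_same, Pi.mulSingle_eq_of_ne h12, mul_one])
    obtain ⟨θ, hθ⟩ := hconj (σ t) x' hxder hx'der
    have hle : Subgroup.centralizer ({x'} : Set M) ≤ Subgroup.centralizer ({σ t} : Set M) := by
      intro m hm
      rw [Subgroup.mem_centralizer_iff] at hm ⊢
      intro h hh
      rw [Set.mem_singleton_iff] at hh
      rw [hh]
      have h1 := hm x' (Set.mem_singleton _)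
      apply ψ.injective
      rw [map_mul, map_mul, hσ]
      have h2 := congrArg ψ h1
      rw [map_mul, map_mul, hx'] at h2
      have h3 := congrFun h2 i₁
      simp only [Pi.mul_apply, Pi.mulSingle_eq_same, Pi.mulSingle_eq_of_ne h12, mul_one] at h3
      funext i
      by_cases hi : i = i₁
      · rw [hi]
        simp only [Pi.mul_apply, Pi.mulSingle_eq_same]
        exact h3
      · simp only [Pi.mul_apply, Pi.mulSingle_eq_of_ne hi, one_mul, mul_one]
    have hcard : Nat.card (Subgroup.centralizer ({σ t} : Set M))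
        ≤ Nat.card (Subgroup.centralizer ({x'} : Set M)) := by
      have hmap : (Subgroup.centralizer ({σ t} : Set M)).map θ.toMonoidHom
          ≤ Subgroup.centralizer ({x'} : Set M) := by
        rintro _ ⟨m, hm, rfl⟩
        have hm' : m ∈ Subgroup.centralizer ({σ t} : Set M) := hm
        rw [Subgroup.mem_centralizer_iff] at hm' ⊢
        intro h hh
        rw [Set.mem_singleton_iff] at hh
        rw [hh]
        have h1 := hm' (σ t) (Set.mem_singleton _)
        show x' * θ m = θ m * x'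
        rw [← hθ, ← map_mul, ← map_mul, h1]
      calc Nat.card (Subgroup.centralizer ({σ t} : Set M))
          = Nat.card ((Subgroup.centralizer ({σ t} : Set M)).map θ.toMonoidHom) :=
            Nat.card_congr ((Subgroup.centralizer ({σ t} : Set M)).equivMapOfInjective
              θ.toMonoidHom θ.injective).toEquiv
        _ ≤ _ := Subgroup.card_le_of_le hmap
    have heq := Subgroup.eq_of_le_of_card_ge hle hcard
    have hm₀ : m₀ ∈ Subgroup.centralizer ({σ t} : Set M) := by
      rw [Subgroup.mem_centralizer_iff]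
      intro h hh
      rw [Set.mem_singleton_iff] at hh
      rw [hh]
      apply ψ.injective
      rw [map_mul, map_mul, hσ, hm₀def]
      exact (Pi.mulSingle_commute (f := fun _ : ι => S) h12 t s).eq
    rw [← heq, Subgroup.mem_centralizer_iff] at hm₀
    have h1 := hm₀ x' (Set.mem_singleton _)
    have h2 := congrArg ψ h1
    rw [map_mul, map_mul, hx', hm₀def] at h2
    have h3 := congrFun h2 i₂
    simp only [Pi.mul_apply, Pi.mulSingle_eq_same, Pi.mulSingle_eq_of_ne (Ne.symm h12),
      one_mul] at h3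
    exact hs h3.symm

/-- Primitive, not almost simple: derangements form one class iff sharply 2-transitive. -/
theorem der_class_main {G : Type*} [Group G] [Finite G] {Ω : Type*} [Fintype Ω] [MulAction G Ω]
    [FaithfulSMul G Ω] (hΩ : 2 ≤ Fintype.card Ω) (hprim : IsPreprimitive G Ω)
    (hnas : ¬ ∃ T : Subgroup G, T.Normal ∧ IsSimpleGroup T ∧ ¬ IsMulCommutative T ∧
      Subgroup.centralizer (T : Set G) = ⊥) :
    Nat.card {c : ConjClasses G // ∃ g : G, ConjClasses.mk g = c ∧ ∀ ω : Ω, g • ω ≠ ω} = 1 ↔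
      (IsMultiplyPretransitive G Ω 2 ∧
        ∀ g : G, g ≠ 1 → ∀ a b : Ω, a ≠ b → g • a = a → g • b ≠ b) := by
  rw [der_class_iff]
  constructor
  · rintro ⟨⟨x₀, hx₀⟩, hconj⟩
    have hnt : Nontrivial Ω := by
      rw [← Fintype.one_lt_card_iff_nontrivial]
      omega
    obtain ⟨α⟩ : Nonempty Ω := inferInstance
    have hGnt : Nontrivial G := ⟨⟨x₀, 1, fun h => hx₀ α (by rw [h, one_smul])⟩⟩
    obtain ⟨M, hMn, hMne, hMmin⟩ := exists_minNormal (G := G)
    by_cases hab : ∀ a ∈ M, ∀ b ∈ M, a * b = b * a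
    · exact der_sharp_of_abelian hΩ hprim hconj M hMne hab
    · exfalso
      obtain ⟨S, ι, hι, hιne, hSM, hSs, ⟨ψ⟩⟩ := minNormal_structure M hMn hMne hMmin
      have hDM : ∀ y : G, (∀ ω : Ω, y • ω ≠ ω) → y ∈ M :=
        der_mem_normal hΩ hprim hconj M hMne
      have hnabS : ∃ a b : S, a * b ≠ b * a := by
        by_contra hcon
        push Not at hcon
        apply hab
        intro a ha b hb
        have h1 : ψ ⟨a, ha⟩ * ψ ⟨b, hb⟩ = ψ ⟨b, hb⟩ * ψ ⟨a, ha⟩ := by
          funext i
          exact hcon _ _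
        have h2 := ψ.injective ((map_mul ψ _ _).trans (h1.trans (map_mul ψ _ _).symm))
        exact congrArg Subtype.val h2
      have htrM := pf_normal_transitive hprim M hMne
      by_cases hι2 : ∃ i₁ i₂ : ι, i₁ ≠ i₂
      · obtain ⟨i₁, i₂, h12⟩ := hι2
        refine der_prod_aux (M := M) (Ω := Ω) ψ hSs hnabS i₁ i₂ h12 α ?_ ?_ ?_
        · intro ω
          obtain ⟨m, hm, hmω⟩ := htrM α ω
          exact ⟨⟨m, hm⟩, hmω⟩
        · intro m hm
          apply Subtype.ext
          exact FaithfulSMul.eq_of_smul_eq_smul (α := Ω)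
            (fun ω => (hm ω).trans (one_smul G ω).symm)
        · intro x y hx hy
          obtain ⟨g, hg⟩ := isConj_iff.mp (hconj (x : G) (y : G) hx hy)
          refine ⟨MulAut.conjNormal g, ?_⟩
          apply Subtype.ext
          rw [MulAut.conjNormal_apply]
          exact hg
      · push Not at hι2
        have hsub : Subsingleton ι := ⟨hι2⟩
        obtain ⟨i₀⟩ := hιne
        have huniq : Unique ι := uniqueOfSubsingleton i₀
        have hMs : IsSimpleGroup M := (ψ.trans (MulEquiv.funUnique ι S)).isSimpleGroup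
        apply hnas
        refine ⟨M, hMn, hMs, ?_, ?_⟩
        · intro hcomm
          apply hab
          intro a ha b hb
          have h := hcomm.is_comm.comm (⟨a, ha⟩ : M) ⟨b, hb⟩
          exact congrArg Subtype.val h
        · by_contra hC
          have hxC := der_mem_normal hΩ hprim hconj (Subgroup.centralizer (M : Set G)) hC x₀ hx₀
          have hxM := hDM x₀ hx₀
          have hcen : (⟨x₀, hxM⟩ : M) ∈ Subgroup.center M := by
            rw [Subgroup.mem_center_iff]
            intro g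
            apply Subtype.ext
            exact Subgroup.mem_centralizer_iff.mp hxC g g.2
          rcases (inferInstance : (Subgroup.center M).Normal).eq_bot_or_eq_top with hbot | htop
          · rw [hbot, Subgroup.mem_bot] at hcen
            exact hx₀ α (by rw [show x₀ = 1 from congrArg Subtype.val hcen, one_smul])
          · apply hab
            intro a ha b hb
            have ha' : (⟨a, ha⟩ : M) ∈ Subgroup.center M := by
              rw [htop]
              exact Subgroup.mem_top _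
            have h := Subgroup.mem_center_iff.mp ha' ⟨b, hb⟩
            exact (congrArg Subtype.val h).symm
  · rintro ⟨h2, hsharp⟩
    exact der_one_class_of_sharp hΩ h2 hsharp

end Cfsg.Agent.Helper19
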