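import Mathlib
import Cfsg.Agent.S4713
import Cfsg.Agent.S1489
import Cfsg.Agent.Helper6.LinExt
import Cfsg.Agent.Helper6.SylowExt
import Cfsg.Agent.Helper6.DetExt
import Cfsg.Agent.Helper6.Inertia
import Cfsg.Agent.Helper6.Inflate
import Cfsg.Agent.Helper6.GoingDown
import Cfsg.Agent.Helper24.ItoPSolv
import Cfsg.Agent.Helper24.ClassSum
import Cfsg.Agent.Helper27.SylowLemmas

/-!
For a `p`-solvable group, the derived length of a Sylow `p`-subgroup is at most one more than
the number of irreducible characters of degree divisible by `p`.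
-/

set_option autoImplicit false

namespace Cfsg.Agent.Helper19

open Cfsg
open scoped ComplexConjugate

universe u

theorem dl_normal_pgroup_le_sylow {G : Type*} [Group G] [Finite G] {p : ℕ} [Fact p.Prime]
    (H : Subgroup G) [hHn : H.Normal] (hH : IsPGroup p H) (P : Sylow p G) :
    H ≤ (P : Subgroup G) := by
  obtain ⟨Q, hQ⟩ := hH.exists_le_sylow
  obtain ⟨g, rfl⟩ := MulAction.exists_smul_eq G P Q
  intro h hh
  have h1 : g * h * g⁻¹ ∈ (g • P : Sylow p G) := hQ (hHn.conj_mem h hh g)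
  rw [Helper27.mem_sylow_smul_iff] at h1
  have h2 : g⁻¹ * (g * h * g⁻¹) * g = h := by group
  rwa [h2] at h1

/-- Subgroups of `p`-solvable groups are `p`-solvable. -/
theorem dl_isPSolvable_subgroup {G : Type*} [Group G] [Finite G] (p : ℕ) [hp : Fact p.Prime]
    (hG : Cfsg.IsPSolvable p G) (T : Subgroup G) : Cfsg.IsPSolvable p T := by
  obtain ⟨n, H, h0, hlast, hmono, hnorm, hstep⟩ := hG
  refine ⟨n, fun i => (H i).subgroupOf T, ?_, ?_, ?_, ?_, ?_⟩
  · show (H 0).subgroupOf T = ⊥
    rw [h0, Subgroup.bot_subgroupOf]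
  · show (H (Fin.last n)).subgroupOf T = ⊤
    rw [hlast, Subgroup.top_subgroupOf]
  · intro i j hij x hx
    exact Subgroup.mem_subgroupOf.mpr (hmono hij (Subgroup.mem_subgroupOf.mp hx))
  · intro i
    haveI := hnorm i
    exact Subgroup.normal_subgroupOf
  · intro i
    haveI := hnorm i.castSucc
    have hdvd : ((H i.castSucc).subgroupOf T).relIndex ((H i.succ).subgroupOf T) ∣
        (H i.castSucc).relIndex (H i.succ) := by
      rw [← Subgroup.inf_subgroupOf_right (H i.succ) T, Subgroup.relIndex_subgroupOf inf_le_right,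
        ← Subgroup.relIndex_subgroupOf (inf_le_left : H i.succ ⊓ T ≤ H i.succ)]
      exact Subgroup.relIndex_dvd_index_of_normal _ _
    rcases hstep i with ⟨m, hm⟩ | hc
    · left
      rw [hm] at hdvd
      obtain ⟨j, -, hj⟩ := (Nat.dvd_prime_pow hp.out).mp hdvd
      exact ⟨j, hj⟩
    · right
      exact Nat.Coprime.coprime_dvd_left hdvd hc

/-- Derived series and quotients. -/
theorem dl_map_quot {G : Type*} [Group G] (P N : Subgroup G) [N.Normal] (Q : Subgroup (G ⧸ N))
    (hQ : Q = P.map (QuotientGroup.mk' N)) (k : ℕ) (h : derivedSeries ↥Q k = ⊥) :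
    ∀ x ∈ derivedSeries ↥P k, (x : G) ∈ N := by
  subst hQ
  intro x hx
  have h1 := map_derivedSeries_le_derivedSeries ((QuotientGroup.mk' N).subgroupMap P) k
  rw [h] at h1
  have h2 : ((QuotientGroup.mk' N).subgroupMap P) x ∈ (⊥ : Subgroup _) :=
    h1 (Subgroup.mem_map_of_mem _ hx)
  rw [Subgroup.mem_bot] at h2
  have h3 := congrArg Subtype.val h2
  exact (QuotientGroup.eq_one_iff _).mp h3

theorem dl_succ_eq_bot {G : Type*} [Group G] (P N : Subgroup G) (k : ℕ)
    (hN : ∀ a ∈ N, ∀ b ∈ N, a * b = b * a)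
    (h : ∀ x ∈ derivedSeries ↥P k, (x : G) ∈ N) : derivedSeries ↥P (k + 1) = ⊥ := by
  rw [derivedSeries_succ, Subgroup.commutator_eq_bot_iff_le_centralizer]
  intro x hx
  rw [Subgroup.mem_centralizer_iff]
  intro y hy
  apply Subtype.ext
  exact hN _ (h y hy) _ (h x hx)

theorem dl_eq_bot_of_disjoint {G : Type*} [Group G] (P N : Subgroup G) (k : ℕ)
    (hNP : ∀ x ∈ N, x ∈ P → x = 1)
    (h : ∀ x ∈ derivedSeries ↥P k, (x : G) ∈ N) : derivedSeries ↥P k = ⊥ := by
  rw [eq_bot_iff]
  intro x hx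
  rw [Subgroup.mem_bot]
  exact Subtype.ext (hNP _ (h x hx) x.2)

/-- A linear character is irreducible. -/
theorem dl_irr_of_linear {Γ : Type*} [Group Γ] [Fintype Γ] {μ : Γ → ℂ} (hμ : IsCharacter Γ μ)
    (hμ1 : μ 1 = 1) : IsIrrCharacter Γ μ := by
  have h := Helper6.isIrrCharacter_linear_mul hμ hμ1 (Helper2.isIrrCharacter_one_fun (G := Γ))
  have e : μ * (fun _ => (1 : ℂ)) = μ := by
    funext g
    simp
  rwa [e] at h

/-- Extending an invariant linear character of a normal subgroup of prime-to-index order. -/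
theorem dl_exists_linear_ext {Γ : Type*} [Group Γ] [Fintype Γ] (M : Subgroup Γ) [hM : M.Normal]
    (lam : M → ℂ) (hlamc : IsCharacter M lam) (hlam1 : lam 1 = 1)
    (hinv : ∀ (g : Γ) (n : M), lam ⟨g * n * g⁻¹, hM.conj_mem (n : Γ) n.2 g⟩ = lam n)
    (Q : Subgroup Γ) (hMQ : M ≤ Q) (ν : Q → ℂ) (hνc : IsCharacter Q ν)
    (hν : ∀ n : M, ν ⟨(n : Γ), hMQ n.2⟩ = lam n)
    (hcop : (Q.index).Coprime (Nat.card M)) :
    ∃ μ : Γ → ℂ, IsCharacter Γ μ ∧ μ 1 = 1 ∧ ∀ n : M, μ n = lam n := by
  classical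
  obtain ⟨μ₀, hμ₀c, hμ₀1, hμ₀⟩ :=
    Helper6.exists_linear_extension_pow M lam hlamc hlam1 hinv Q hMQ ν hνc hν
  by_cases hc : Nat.card M = 1
  · refine ⟨fun _ => 1, Helper24.isCharacter_of_irr Helper2.isIrrCharacter_one_fun, rfl, ?_⟩
    intro n
    have hsub := (Nat.card_eq_one_iff_unique.mp hc).1
    have hn : n = 1 := Subsingleton.elim _ _
    rw [hn, hlam1]
  · have h1 : 1 < Nat.card M := by
      have := Nat.card_pos (α := M)
      omega
    obtain ⟨b, -, hb⟩ := Nat.exists_mul_mod_eq_one_of_coprime hcop h1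
    refine ⟨μ₀ ^ b, Helper6.isCharacter_pow hμ₀c b, by simp [hμ₀1], ?_⟩
    intro n
    rw [Pi.pow_apply, hμ₀, ← pow_mul]
    have h2 : Q.index * b = Nat.card M * (Q.index * b / Nat.card M) + 1 := by
      have := Nat.div_add_mod (Q.index * b) (Nat.card M)
      rw [hb] at this
      exact this.symm
    rw [h2, pow_succ, pow_mul, Helper6.linear_pow_card hlamc hlam1, one_pow, one_mul]

/-- A character of `p'`-degree of a `p`-group has a linear constituent. -/
theorem dl_exists_linear_constituent {P : Type*} [Group P] [Fintype P] (p : ℕ)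
    [hp : Fact p.Prime] (hP : IsPGroup p P) {Θ : P → ℂ} (hΘ : IsCharacter P Θ)
    (hd : ¬ p ∣ charDegree Θ) :
    ∃ μ : P → ℂ, IsIrrCharacter P μ ∧ classInner Θ μ ≠ 0 ∧ μ 1 = 1 := by
  classical
  have := Helper24.finite_irrCharacter (G := P)
  have := Fintype.ofFinite (IrrCharacter P)
  by_contra hcon
  push Not at hcon
  apply hd
  have hexp := Helper2.class_fn_expansion (Helper2.IsCharacter.isClassFunction hΘ)
  have h1 := congrFun hexp 1
  rw [Finset.sum_apply] at h1
  choose m hm using fun μ : IrrCharacter P =>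
    Helper2.classInner_char_nat hΘ (Helper24.isCharacter_of_irr μ.2)
  have h2 : (charDegree Θ : ℂ) =
      ((∑ μ : IrrCharacter P, m μ * charDegree (μ : P → ℂ) : ℕ) : ℂ) := by
    rw [← Helper24.charDegree_spec hΘ, h1]
    push_cast
    refine Finset.sum_congr rfl fun μ _ => ?_
    rw [Pi.smul_apply, smul_eq_mul, hm μ,
      Helper24.charDegree_spec (Helper24.isCharacter_of_irr μ.2)]
  have h3 : charDegree Θ = ∑ μ : IrrCharacter P, m μ * charDegree (μ : P → ℂ) := by
    exact_mod_cast h2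
  rw [h3]
  apply Finset.dvd_sum
  intro μ _
  by_cases hm0 : m μ = 0
  · rw [hm0, zero_mul]
    exact dvd_zero _
  · apply Dvd.dvd.mul_left
    have hne : classInner Θ (μ : P → ℂ) ≠ 0 := by
      rw [hm μ]
      exact_mod_cast hm0
    have hμ1 := hcon μ.1 μ.2 hne
    obtain ⟨k, hk⟩ := IsPGroup.iff_card.mp hP
    have hdv := Helper2.irr_degree_dvd_card μ.2
    rw [hk] at hdv
    obtain ⟨j, hj, hdj⟩ := (Nat.dvd_prime_pow hp.out).mp hdv
    rw [hdj]
    apply dvd_pow_self
    rintro rfl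
    apply hμ1
    rw [Helper24.charDegree_spec (Helper24.isCharacter_of_irr μ.2), hdj]
    simp

/-- Clifford correspondence: a character of the inertia group lying over a nonprincipal
irreducible `lam` induces irreducibly to a character that is not trivial on `N`. -/
theorem dl_ind_irr {G : Type*} [Group G] [Fintype G] (N : Subgroup G) [hN : N.Normal]
    [Fintype N] (lam : N → ℂ) (hlam : IsIrrCharacter N lam) (hlam1 : lam ≠ fun _ => 1)
    (T : Subgroup G) [Fintype T] (hT : T = Helper6.inertia N lam) (hNT : N ≤ T)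
    (ψ : T → ℂ) (hψ : IsIrrCharacter T ψ) (c : ℂ) (hc : c ≠ 0)
    (hψN : ∀ n : N, ψ ⟨(n : G), hNT n.2⟩ = c * lam n) :
    IsIrrCharacter G (indFun T ψ) ∧ ∃ x ∈ N, indFun T ψ x ≠ indFun T ψ 1 := by
  classical
  have hlamc := Helper24.isCharacter_of_irr hlam
  have hψc := Helper24.isCharacter_of_irr hψ
  have := Fintype.ofFinite (N.subgroupOf T)
  have hT' : ∀ g : G, g ∈ T ↔ ∀ h : N, lam ⟨g * h * g⁻¹, hN.conj_mem h h.2 g⟩ = lam h := by
    intro g
    rw [hT]
    exact Helper6.mem_inertia N lam g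
  obtain ⟨lam', hlam'def⟩ : ∃ lam' : N.subgroupOf T → ℂ,
      lam' = fun x : N.subgroupOf T => lam ⟨((x : T) : G), Subgroup.mem_subgroupOf.mp x.2⟩ :=
    ⟨_, rfl⟩
  have hlam'irr : IsIrrCharacter (N.subgroupOf T) lam' := by
    rw [hlam'def]
    exact Helper6.isIrrCharacter_comp_mulEquiv (Subgroup.subgroupOfEquivOfLe hNT) hlam
  have hcon : classInner (indFun (N.subgroupOf T) lam') ψ ≠ 0 := by
    rw [Helper6.classInner_indFun_eq (N.subgroupOf T) (Helper24.isCharacter_of_irr hlam'irr) hψc]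
    have hres : (fun h : N.subgroupOf T => ψ h) = c • lam' := by
      funext h
      rw [Pi.smul_apply, smul_eq_mul, hlam'def]
      exact hψN ⟨((h : T) : G), Subgroup.mem_subgroupOf.mp h.2⟩
    rw [hres, Helper2.classInner_smul_left, Helper2.classInner_irr hlam'irr hlam'irr, if_pos rfl,
      mul_one]
    exact hc
  rw [hlam'def] at hcon
  have hirr := (Cfsg.Agent.S1489.result N T lam hlam hT' hNT ψ ψ hψ hψ hcon hcon).1
  refine ⟨hirr, ?_⟩
  by_contra hall
  push Not at hall
  have key : ∀ (x : G) (n : N), extendByZero T ψ (x⁻¹ * (n : G) * x) =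
      c * Helper6.conjFun N x⁻¹ lam n := by
    intro x n
    have hmem : x⁻¹ * (n : G) * x ∈ N := by
      have := hN.conj_mem (n : G) n.2 x⁻¹
      rwa [inv_inv] at this
    rw [Helper2.extendByZero_apply_mem T ψ (hNT hmem), hψN ⟨_, hmem⟩, Helper6.conjFun_apply]
    congr 2
    apply Subtype.ext
    simp
  have hsumlam : ∑ n : N, lam n = 0 := by
    have h1 := Helper2.classInner_irr hlam (Helper2.isIrrCharacter_one_fun (G := N))
    rw [if_neg hlam1] at h1
    unfold classInner at h1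
    have hN0 : (Nat.card N : ℂ) ≠ 0 := by exact_mod_cast Nat.card_pos.ne'
    rcases mul_eq_zero.mp h1 with h2 | h2
    · exact absurd (inv_eq_zero.mp h2) hN0
    · rw [← h2]
      refine Finset.sum_congr rfl fun n _ => ?_
      simp
  have hconj : ∀ g : G, ∑ n : N, Helper6.conjFun N g lam n = 0 := by
    intro g
    rw [Helper6.conjFun_eq_comp, ← hsumlam]
    exact Equiv.sum_comp (MulAut.conjNormal g : N ≃* N).toEquiv lam
  have hS1 : ∑ n : N, indFun T ψ (n : G) = 0 := by
    have h1 : ∀ n : N, indFun T ψ (n : G) =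
        (Nat.card T : ℂ)⁻¹ * ∑ x : G, c * Helper6.conjFun N x⁻¹ lam n := by
      intro n
      rw [Helper2.indFun_apply]
      congr 1
      exact Finset.sum_congr rfl fun x _ => key x n
    rw [Finset.sum_congr rfl (fun n _ => h1 n), ← Finset.mul_sum, Finset.sum_comm]
    have h2 : ∀ x : G, ∑ n : N, c * Helper6.conjFun N x⁻¹ lam n = 0 := by
      intro x
      rw [← Finset.mul_sum, hconj, mul_zero]
    rw [Finset.sum_congr rfl (fun x _ => h2 x), Finset.sum_const_zero, mul_zero]
  have hS2 : ∑ n : N, indFun T ψ (n : G) = (Nat.card N : ℂ) * indFun T ψ 1 := by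
    rw [Finset.sum_congr rfl (fun (n : N) _ => hall (n : G) n.2), Finset.sum_const, Finset.card_univ,
      nsmul_eq_mul, Nat.card_eq_fintype_card]
  rw [hS1] at hS2
  have hN0 : (Nat.card N : ℂ) ≠ 0 := by exact_mod_cast Nat.card_pos.ne'
  have h1 : indFun T ψ 1 = 0 := by
    rcases mul_eq_zero.mp hS2.symm with h | h
    · exact absurd h hN0
    · exact h
  exact Helper24.irr_one_ne_zero hirr h1

end Cfsg.Agent.Helper19
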