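import Mathlib
import Cfsg.Agent.Helper19.Derange

set_option autoImplicit false

namespace Cfsg.Agent.Helper19

open MulAction

theorem derSub_normal (G Ω : Type*) [Group G] [MulAction G Ω] : (derSub G Ω).Normal := by
  constructor
  intro n hn g
  unfold derSub at hn ⊢
  induction hn using Subgroup.closure_induction with
  | mem x hx =>
    apply Subgroup.subset_closure
    intro ω h
    apply hx (g⁻¹ • ω)
    calc x • g⁻¹ • ω = g⁻¹ • (g * x * g⁻¹) • ω := by simp [mul_smul]
      _ = g⁻¹ • ω := by rw [h]
  | one => simp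
  | mul x y _ _ hx hy =>
    have : g * (x * y) * g⁻¹ = (g * x * g⁻¹) * (g * y * g⁻¹) := by group
    rw [this]
    exact Subgroup.mul_mem _ hx hy
  | inv x _ hx =>
    have : g * x⁻¹ * g⁻¹ = (g * x * g⁻¹)⁻¹ := by group
    rw [this]
    exact Subgroup.inv_mem _ hx

theorem dvd_card_of_dvd_orbits {S Y : Type*} [Group S] [MulAction S Y] [Finite Y] (m : ℕ)
    (h : ∀ y : Y, m ∣ Nat.card (orbit S y)) : m ∣ Nat.card Y := by
  classical
  have := Fintype.ofFinite Y
  rw [Nat.card_congr (selfEquivSigmaOrbits S Y), Nat.card_eq_fintype_card, Fintype.card_sigma]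
  apply Finset.dvd_sum
  intro q _
  rw [← Nat.card_eq_fintype_card]
  exact h _

variable {G Ω : Type*} [Group G] [Finite G] [MulAction G Ω] [Finite Ω]

/-- An element with two distinct fixed points lies in the derangement subgroup. -/
theorem mem_derSub_of_two_fixed (htrans : IsPretransitive G Ω) (g : G) (a b : Ω) (hab : a ≠ b)
    (ha : g • a = a) (hb : g • b = b) : g ∈ derSub G Ω := by
  by_contra hg
  have h1 := (derSub_core htrans).2 g hg
  obtain ⟨hs, -⟩ := Nat.card_eq_one_iff_unique.1 h1
  exact hab (congrArg Subtype.val (hs.elim (⟨a, ha⟩ : fixedBy Ω g) ⟨b, hb⟩))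

theorem derSub_sup_stabilizer (htrans : IsPretransitive G Ω) (ω : Ω) :
    derSub G Ω ⊔ stabilizer G ω = ⊤ := by
  rw [eq_top_iff]
  intro g _
  have hD := (derSub_core htrans).1
  obtain ⟨d, hd⟩ := hD.exists_smul_eq ω (g • ω)
  have hd' : (d : G) • ω = g • ω := hd
  have h1 : (d : G)⁻¹ * g ∈ stabilizer G ω := by
    rw [mem_stabilizer_iff, mul_smul, ← hd', inv_smul_smul]
  have h2 : g = (d : G) * ((d : G)⁻¹ * g) := by group
  rw [h2]
  exact Subgroup.mul_mem_sup d.2 h1

theorem derSub_index_eq_relIndex (htrans : IsPretransitive G Ω) (ω : Ω) :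
    (derSub G Ω).index = (derSub G Ω).relIndex (stabilizer G ω) := by
  have := derSub_normal G Ω
  rw [← Subgroup.relIndex_sup_right (K := derSub G Ω) (H := stabilizer G ω), sup_comm,
    derSub_sup_stabilizer htrans ω, Subgroup.relIndex_top_right]

theorem stabilizer_ofStabilizer_le (htrans : IsPretransitive G Ω) (ω : Ω)
    (y : SubMulAction.ofStabilizer G ω) :
    stabilizer (stabilizer G ω) y ≤ (derSub G Ω).subgroupOf (stabilizer G ω) := by
  intro s hs
  rw [Subgroup.mem_subgroupOf]
  have h1 : (s : G) • ω = ω := s.2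
  have h2 : (s : G) • (y : Ω) = y := congrArg Subtype.val (mem_stabilizer_iff.1 hs)
  have hy : (y : Ω) ≠ ω := (SubMulAction.mem_ofStabilizer_iff G ω).1 y.2
  exact mem_derSub_of_two_fixed htrans s ω y (Ne.symm hy) h1 h2

theorem derSub_index_dvd_orbit (htrans : IsPretransitive G Ω) (ω : Ω)
    (y : SubMulAction.ofStabilizer G ω) :
    (derSub G Ω).index ∣ Nat.card (orbit (stabilizer G ω) y) := by
  rw [derSub_index_eq_relIndex htrans ω, Nat.card_coe_set_eq, ← index_stabilizer]
  exact Subgroup.index_dvd_of_le (stabilizer_ofStabilizer_le htrans ω y)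

/-- The index of the derangement subgroup divides `n - 1`. -/
theorem derSub_index_dvd (htrans : IsPretransitive G Ω) (ω : Ω) :
    (derSub G Ω).index ∣ Nat.card Ω - 1 := by
  rw [← SubMulAction.nat_card_ofStabilizer_eq G ω]
  exact dvd_card_of_dvd_orbits _ (derSub_index_dvd_orbit htrans ω)

/-- If the index of the derangement subgroup is `n - 1`, then `n` is a prime power. -/
theorem derSub_primePow [FaithfulSMul G Ω] (htrans : IsPretransitive G Ω) (hΩ : 2 ≤ Nat.card Ω)
    (heq : (derSub G Ω).index = Nat.card Ω - 1) : IsPrimePow (Nat.card Ω) := by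
  have hne : Nonempty Ω := by
    by_contra hemp
    rw [not_nonempty_iff] at hemp
    rw [Nat.card_of_isEmpty] at hΩ
    omega
  obtain ⟨ω⟩ := hne
  have hDn := derSub_normal G Ω
  have hDt : IsPretransitive ↥(derSub G Ω) Ω := (derSub_core htrans).1
  -- Step 1: the stabilizer is transitive on the other points
  have horb : ∀ y : SubMulAction.ofStabilizer G ω, orbit (stabilizer G ω) y = Set.univ := by
    intro y
    rw [Set.eq_univ_iff_ncard, SubMulAction.nat_card_ofStabilizer_eq G ω]
    have h1 := derSub_index_dvd_orbit htrans ω y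
    rw [Nat.card_coe_set_eq, heq] at h1
    have h2 : (orbit (stabilizer G ω) y).ncard ≤ Nat.card (SubMulAction.ofStabilizer G ω) := by
      rw [← Set.ncard_univ]
      exact Set.ncard_le_ncard (Set.subset_univ _)
    rw [SubMulAction.nat_card_ofStabilizer_eq G ω] at h2
    have h3 : 0 < (orbit (stabilizer G ω) y).ncard := by
      rw [Set.ncard_pos]
      exact nonempty_orbit y
    exact Nat.le_antisymm h2 (Nat.le_of_dvd h3 h1)
  -- Step 2: the derangement subgroup acts regularly
  have htriv : ∀ t : G, t ∈ derSub G Ω → t • ω = ω → t = 1 := by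
    intro t htD htω
    apply FaithfulSMul.eq_of_smul_eq_smul (α := Ω)
    intro x
    rw [one_smul]
    by_cases hx : x = ω
    · rw [hx]; exact htω
    · let y : SubMulAction.ofStabilizer G ω := ⟨x, (SubMulAction.mem_ofStabilizer_iff G ω).2 hx⟩
      have hle := stabilizer_ofStabilizer_le htrans ω y
      have hidx : (stabilizer (stabilizer G ω) y).index =
          ((derSub G Ω).subgroupOf (stabilizer G ω)).index := by
        rw [index_stabilizer, horb y, Set.ncard_univ, SubMulAction.nat_card_ofStabilizer_eq G ω,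
          ← heq, derSub_index_eq_relIndex htrans ω]
        rfl
      have hcard : Nat.card ((derSub G Ω).subgroupOf (stabilizer G ω)) ≤
          Nat.card (stabilizer (stabilizer G ω) y) := by
        have e1 := Subgroup.card_mul_index (stabilizer (stabilizer G ω) y)
        have e2 := Subgroup.card_mul_index ((derSub G Ω).subgroupOf (stabilizer G ω))
        rw [hidx] at e1
        have hpos : 0 < ((derSub G Ω).subgroupOf (stabilizer G ω)).index :=
          Nat.pos_of_ne_zero Subgroup.index_ne_zero_of_finite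
        exact le_of_eq (Nat.eq_of_mul_eq_mul_right hpos (e1.trans e2.symm)).symm
      have hEq := Subgroup.eq_of_le_of_card_ge hle hcard
      have hmem : (⟨t, htω⟩ : stabilizer G ω) ∈ (derSub G Ω).subgroupOf (stabilizer G ω) := by
        rw [Subgroup.mem_subgroupOf]
        exact htD
      rw [← hEq] at hmem
      exact congrArg Subtype.val (mem_stabilizer_iff.1 hmem)
  -- Step 3: all non-trivial elements have the same order
  have hord : ∀ d d' : G, d ∈ derSub G Ω → d' ∈ derSub G Ω → d ≠ 1 → d' ≠ 1 →
      orderOf d = orderOf d' := by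
    intro d d' hd hd' hd1 hd'1
    have hdω : d • ω ≠ ω := fun h => hd1 (htriv d hd h)
    have hd'ω : d' • ω ≠ ω := fun h => hd'1 (htriv d' hd' h)
    let y : SubMulAction.ofStabilizer G ω :=
      ⟨d • ω, (SubMulAction.mem_ofStabilizer_iff G ω).2 hdω⟩
    let y' : SubMulAction.ofStabilizer G ω :=
      ⟨d' • ω, (SubMulAction.mem_ofStabilizer_iff G ω).2 hd'ω⟩
    have hy' : y' ∈ orbit (stabilizer G ω) y := by rw [horb y]; trivial
    obtain ⟨s, hs⟩ := hy'
    have hs' : (s : G) • d • ω = d' • ω := congrArg Subtype.val hs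
    have hsω : (s : G) • ω = ω := s.2
    have ht : d'⁻¹ * ((s : G) * d * (s : G)⁻¹) = 1 := by
      apply htriv
      · exact (derSub G Ω).mul_mem ((derSub G Ω).inv_mem hd') (hDn.conj_mem d hd s)
      · have hsi : (s : G)⁻¹ • ω = ω := by rw [inv_smul_eq_iff, hsω]
        rw [mul_smul, mul_smul, mul_smul, hsi, hs', inv_smul_smul]
    have hconj : (s : G) * d * (s : G)⁻¹ = d' := by
      have := congrArg (fun z => d' * z) ht
      simpa using this
    rw [← hconj]
    exact ((MulAut.conj (s : G)).orderOf_eq d).symm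
  -- Step 4: the derangement subgroup has order `n`
  have hcardD : Nat.card (derSub G Ω) = Nat.card Ω := by
    have h1 := index_stabilizer_of_transitive (derSub G Ω) ω
    have h2 : stabilizer (derSub G Ω) ω = ⊥ := by
      rw [eq_bot_iff]
      intro t ht
      rw [Subgroup.mem_bot]
      apply Subtype.ext
      exact htriv t t.2 ht
    rw [h2, Subgroup.index_bot] at h1
    exact h1
  -- Step 5: it is a `p`-group
  have hp : (Nat.card Ω).minFac.Prime := Nat.minFac_prime (by omega)
  have : Fact (Nat.card Ω).minFac.Prime := ⟨hp⟩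
  have hdvd : (Nat.card Ω).minFac ∣ Nat.card (derSub G Ω) := by
    rw [hcardD]
    exact Nat.minFac_dvd _
  obtain ⟨d₀, hd₀⟩ := exists_prime_orderOf_dvd_card' (Nat.card Ω).minFac hdvd
  have hd₀1 : (d₀ : G) ≠ 1 := by
    intro h
    have h' : d₀ = 1 := Subtype.ext h
    rw [h', orderOf_one] at hd₀
    exact hp.ne_one hd₀.symm
  have hpg : IsPGroup (Nat.card Ω).minFac (derSub G Ω) := by
    intro d
    refine ⟨1, ?_⟩
    rw [pow_one]
    by_cases hd1 : d = 1
    · rw [hd1, one_pow]
    · have h := hord d d₀ d.2 d₀.2 (fun h => hd1 (Subtype.ext h)) hd₀1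
      rw [Subgroup.orderOf_coe, Subgroup.orderOf_coe, hd₀] at h
      rw [← h]
      exact pow_orderOf_eq_one d
  obtain ⟨k, hk⟩ := IsPGroup.iff_card.1 hpg
  rw [hcardD] at hk
  rw [isPrimePow_nat_iff]
  refine ⟨(Nat.card Ω).minFac, k, hp, ?_, hk.symm⟩
  rcases Nat.eq_zero_or_pos k with h0 | h0
  · rw [h0, pow_zero] at hk
    omega
  · exact h0

end Cfsg.Agent.Helper19
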