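import Mathlib

set_option autoImplicit false

namespace Cfsg.Agent.Helper19

/-- The conclusion of the class-product fixed-point statement. -/
def fp_Concl {α : Type*} [DecidableEq α] [Fintype α] (a b : Equiv.Perm α) : Prop :=
  ∃ g₁ h₁ g₂ h₂ : Equiv.Perm α, g₁ ∈ alternatingGroup α ∧ h₁ ∈ alternatingGroup α ∧
    g₂ ∈ alternatingGroup α ∧ h₂ ∈ alternatingGroup α ∧
    Nat.card (Function.fixedPoints ⇑(g₁ * a * g₁⁻¹ * (h₁ * b * h₁⁻¹))) ≠
      Nat.card (Function.fixedPoints ⇑(g₂ * a * g₂⁻¹ * (h₂ * b * h₂⁻¹)))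

theorem fp_card_comm {α : Type*} (p q : Equiv.Perm α) :
    Nat.card (Function.fixedPoints ⇑(p * q)) = Nat.card (Function.fixedPoints ⇑(q * p)) := by
  apply Nat.card_congr
  refine ⟨fun z => ⟨q z.1, ?_⟩, fun z => ⟨p z.1, ?_⟩, ?_, ?_⟩
  · have hz : (p * q) z.1 = z.1 := z.2
    show (q * p) (q z.1) = q z.1
    rw [Equiv.Perm.mul_apply] at hz ⊢
    rw [hz]
  · have hz : (q * p) z.1 = z.1 := z.2
    show (p * q) (p z.1) = p z.1
    rw [Equiv.Perm.mul_apply] at hz ⊢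
    rw [hz]
  · intro z
    apply Subtype.ext
    have hz : (p * q) z.1 = z.1 := z.2
    simpa [Equiv.Perm.mul_apply] using hz
  · intro z
    apply Subtype.ext
    have hz : (q * p) z.1 = z.1 := z.2
    simpa [Equiv.Perm.mul_apply] using hz

theorem fp_symm {α : Type*} [DecidableEq α] [Fintype α] (a b : Equiv.Perm α) (h : fp_Concl b a) :
    fp_Concl a b := by
  obtain ⟨g₁, h₁, g₂, h₂, hg₁, hh₁, hg₂, hh₂, hne⟩ := h
  refine ⟨h₁, g₁, h₂, g₂, hh₁, hg₁, hh₂, hg₂, ?_⟩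
  rw [fp_card_comm (h₁ * a * h₁⁻¹) (g₁ * b * g₁⁻¹), fp_card_comm (h₂ * a * h₂⁻¹) (g₂ * b * g₂⁻¹)]
  exact hne

theorem fp_card_lt {α : Type*} [Finite α] (f f' : α → α) (x : α)
    (hsub : ∀ z, f' z = z → f z = z) (hx : f x = x) (hx' : f' x ≠ x) :
    Nat.card (Function.fixedPoints f') < Nat.card (Function.fixedPoints f) := by
  have hss : Function.fixedPoints f' ⊂ Function.fixedPoints f := by
    refine ⟨fun z hz => hsub z hz, fun h => hx' (h hx)⟩
  rw [Nat.card_coe_set_eq, Nat.card_coe_set_eq]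
  exact Set.ncard_lt_ncard hss

theorem fp_concl_of_move {α : Type*} [DecidableEq α] [Fintype α] (a b σ h : Equiv.Perm α)
    (hσ : σ ∈ alternatingGroup α) (hh : h ∈ alternatingGroup α) (x : α)
    (hsub : ∀ z, (σ * a * σ⁻¹ * (h * b * h⁻¹)) z = z → (a * (h * b * h⁻¹)) z = z)
    (hx : (a * (h * b * h⁻¹)) x = x) (hx' : (σ * a * σ⁻¹ * (h * b * h⁻¹)) x ≠ x) :
    fp_Concl a b := by
  refine ⟨1, h, σ, h, one_mem _, hh, hσ, hh, ?_⟩
  have hlt := fp_card_lt (⇑(a * (h * b * h⁻¹))) (⇑(σ * a * σ⁻¹ * (h * b * h⁻¹))) x hsub hx hx'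
  rw [one_mul, inv_one, mul_one]
  exact hlt.ne'

theorem fp_swap_move {α : Type*} [DecidableEq α] (a c : Equiv.Perm α) (p q : α)
    (h1 : a (Equiv.swap p q (c p)) ≠ q) (h2 : a (Equiv.swap p q (c q)) ≠ p)
    (h3 : c (a q) ≠ p) (h4 : c (a p) ≠ q) :
    ∀ z, (Equiv.swap p q * a * Equiv.swap p q * c) z = z → (a * c) z = z := by
  intro z hz
  simp only [Equiv.Perm.mul_apply] at hz ⊢
  have hz' : a (Equiv.swap p q (c z)) = Equiv.swap p q z := by
    have := congrArg (Equiv.swap p q) hz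
    rw [Equiv.swap_apply_self] at this
    exact this
  by_cases hzp : z = p
  · rw [hzp, Equiv.swap_apply_left] at hz'
    exact absurd hz' h1
  by_cases hzq : z = q
  · rw [hzq, Equiv.swap_apply_right] at hz'
    exact absurd hz' h2
  rw [Equiv.swap_apply_of_ne_of_ne hzp hzq] at hz'
  by_cases hcp : c z = p
  · rw [hcp, Equiv.swap_apply_left] at hz'
    exact absurd (by rw [hz', hcp]) h3
  by_cases hcq : c z = q
  · rw [hcq, Equiv.swap_apply_right] at hz'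
    exact absurd (by rw [hz', hcq]) h4
  rw [Equiv.swap_apply_of_ne_of_ne hcp hcq] at hz'
  exact hz'

theorem fp_comm_of_conj {α : Type*} (a κ : Equiv.Perm α) (h1 : a * κ * a⁻¹ = κ) :
    κ * a * κ⁻¹ = a := by
  have h2 : a * κ = κ * a := by
    calc a * κ = (a * κ * a⁻¹) * a := by group
      _ = κ * a := by rw [h1]
  calc κ * a * κ⁻¹ = (a * κ) * κ⁻¹ := by rw [h2]
    _ = a := by group

theorem fp_conj_of_comm {α : Type*} (a κ τ : Equiv.Perm α) (hκ : κ * a * κ⁻¹ = a) :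
    (τ * κ) * a * (τ * κ)⁻¹ = τ * a * τ⁻¹ := by
  calc (τ * κ) * a * (τ * κ)⁻¹ = τ * (κ * a * κ⁻¹) * τ⁻¹ := by group
    _ = τ * a * τ⁻¹ := by rw [hκ]

theorem fp_swap_comm {α : Type*} [DecidableEq α] (p q r s : α) (h1 : r ≠ p) (h2 : r ≠ q)
    (h3 : s ≠ p) (h4 : s ≠ q) :
    Equiv.swap p q * Equiv.swap r s = Equiv.swap r s * Equiv.swap p q := by
  have e := Equiv.swap_apply_apply (Equiv.swap p q) r s
  rw [Equiv.swap_apply_of_ne_of_ne h1 h2, Equiv.swap_apply_of_ne_of_ne h3 h4, Equiv.swap_inv] at e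
  calc Equiv.swap p q * Equiv.swap r s
      = Equiv.swap p q * Equiv.swap r s * (Equiv.swap p q * Equiv.swap p q) := by
        rw [Equiv.swap_mul_self, mul_one]
    _ = (Equiv.swap p q * Equiv.swap r s * Equiv.swap p q) * Equiv.swap p q := by
        simp only [mul_assoc]
    _ = Equiv.swap r s * Equiv.swap p q := by rw [← e]

theorem fp_even_fix {α : Type*} [DecidableEq α] [Fintype α] (h₀ : Equiv.Perm α) (e e' : α)
    (hee : e ≠ e') :
    ∃ h : Equiv.Perm α, h ∈ alternatingGroup α ∧ ∀ t, h₀ t ≠ e → h₀ t ≠ e' → h t = h₀ t := by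
  rcases Int.units_eq_one_or (Equiv.Perm.sign h₀) with hs | hs
  · exact ⟨h₀, Equiv.Perm.mem_alternatingGroup.mpr hs, fun t _ _ => rfl⟩
  · refine ⟨Equiv.swap e e' * h₀, ?_, ?_⟩
    · rw [Equiv.Perm.mem_alternatingGroup, Equiv.Perm.sign_mul, Equiv.Perm.sign_swap hee, hs]
      simp
    · intro t h1 h2
      rw [Equiv.Perm.mul_apply, Equiv.swap_apply_of_ne_of_ne h1 h2]

theorem fp_ex2 {α : Type*} [DecidableEq α] (u v x y : α) (huv : u ≠ v) (hxy : x ≠ y) :
    ∃ h : Equiv.Perm α, h u = x ∧ h v = y := by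
  have h1 : Equiv.swap u x v ≠ x := by
    intro h
    have : Equiv.swap u x v = Equiv.swap u x u := by rw [h, Equiv.swap_apply_left]
    exact huv ((Equiv.swap u x).injective this).symm
  refine ⟨Equiv.swap (Equiv.swap u x v) y * Equiv.swap u x, ?_, ?_⟩
  · rw [Equiv.Perm.mul_apply, Equiv.swap_apply_left,
      Equiv.swap_apply_of_ne_of_ne (Ne.symm h1) hxy]
  · rw [Equiv.Perm.mul_apply, Equiv.swap_apply_left]

theorem fp_ex3 {α : Type*} [DecidableEq α] (u₀ u₁ u₂ x₀ x₁ x₂ : α) (h01 : u₀ ≠ u₁)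
    (h02 : u₀ ≠ u₂) (h12 : u₁ ≠ u₂) (k01 : x₀ ≠ x₁) (k02 : x₀ ≠ x₂) (k12 : x₁ ≠ x₂) :
    ∃ h : Equiv.Perm α, h u₀ = x₀ ∧ h u₁ = x₁ ∧ h u₂ = x₂ := by
  obtain ⟨h, hu₀, hu₁⟩ := fp_ex2 u₀ u₁ x₀ x₁ h01 k01
  have hw0 : h u₂ ≠ x₀ := by
    intro hh
    rw [← hu₀] at hh
    exact h02 (h.injective hh).symm
  have hw1 : h u₂ ≠ x₁ := by
    intro hh
    rw [← hu₁] at hh
    exact h12 (h.injective hh).symm
  refine ⟨Equiv.swap (h u₂) x₂ * h, ?_, ?_, ?_⟩
  · rw [Equiv.Perm.mul_apply, hu₀, Equiv.swap_apply_of_ne_of_ne (Ne.symm hw0) k02]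
  · rw [Equiv.Perm.mul_apply, hu₁, Equiv.swap_apply_of_ne_of_ne (Ne.symm hw1) k12]
  · rw [Equiv.Perm.mul_apply, Equiv.swap_apply_left]

theorem fp_conj_apply {α : Type*} (h b : Equiv.Perm α) (t : α) :
    (h * b * h⁻¹) (h t) = h (b t) := by
  simp [Equiv.Perm.mul_apply]

theorem fp_exists_moved {α : Type*} (a : Equiv.Perm α) (ha : a ≠ 1) : ∃ y, a y ≠ y := by
  by_contra hcon
  push Not at hcon
  exact ha (Equiv.Perm.ext fun x => by rw [hcon x]; rfl)

theorem fp_exists_outside {α : Type*} [DecidableEq α] [Fintype α] (S : Finset α)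
    (h : S.card < Fintype.card α) : ∃ s, s ∉ S := by
  have h' : S.card < (Finset.univ : Finset α).card := by rwa [Finset.card_univ]
  obtain ⟨e, _, he⟩ := Finset.exists_mem_notMem_of_card_lt_card h'
  exact ⟨e, he⟩

/-- Case A: `a` has two fixed points. -/
theorem fp_caseA {α : Type*} [DecidableEq α] [Fintype α] (a b : Equiv.Perm α) (ha : a ≠ 1)
    (hb : b ≠ 1) (w w' : α) (hww : w ≠ w') (hw : a w = w) (hw' : a w' = w') : fp_Concl a b := by
  obtain ⟨y, hy⟩ := fp_exists_moved a ha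
  obtain ⟨u, hu⟩ := fp_exists_moved b hb
  obtain ⟨x, hx⟩ : ∃ x, x = a y := ⟨_, rfl⟩
  have hxy : x ≠ y := by rw [hx]; exact hy
  have hfix_ne_y : ∀ f, a f = f → f ≠ y := fun f hf h => hy (by rw [← h]; exact hf)
  have hfix_ne_x : ∀ f, a f = f → f ≠ x := fun f hf h =>
    hfix_ne_y f hf (a.injective (by rw [hf, h, hx]))
  obtain ⟨h₀, h₀u, h₀v⟩ := fp_ex2 u (b u) x y (Ne.symm hu) hxy
  obtain ⟨h, hh, hfix⟩ := fp_even_fix h₀ w w' hww
  have hhu : h u = x := by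
    rw [hfix u (by rw [h₀u]; exact (hfix_ne_x w hw).symm)
      (by rw [h₀u]; exact (hfix_ne_x w' hw').symm), h₀u]
  have hhv : h (b u) = y := by
    rw [hfix (b u) (by rw [h₀v]; exact (hfix_ne_y w hw).symm)
      (by rw [h₀v]; exact (hfix_ne_y w' hw').symm), h₀v]
  obtain ⟨c, hc⟩ : ∃ c, c = h * b * h⁻¹ := ⟨_, rfl⟩
  have hcx : c x = y := by rw [hc, ← hhu, fp_conj_apply, hhv]
  obtain ⟨w₀, w₁, h01, hw₀, hw₁, hcw⟩ :
      ∃ w₀ w₁, w₀ ≠ w₁ ∧ a w₀ = w₀ ∧ a w₁ = w₁ ∧ a (c w₀) ≠ y := by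
    by_cases hcase : a (c w) = y
    · refine ⟨w', w, hww.symm, hw', hw, ?_⟩
      intro h2
      have : c w' = c w := a.injective (by rw [h2, hcase])
      exact hww (c.injective this).symm
    · exact ⟨w, w', hww, hw, hw', hcase⟩
  have hyw₀ : y ≠ w₀ := (hfix_ne_y w₀ hw₀).symm
  have hxw₀ : x ≠ w₀ := (hfix_ne_x w₀ hw₀).symm
  have hσ : Equiv.swap y w₀ * Equiv.swap w₀ w₁ ∈ alternatingGroup α := by
    rw [Equiv.Perm.mem_alternatingGroup, Equiv.Perm.sign_mul, Equiv.Perm.sign_swap hyw₀,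
      Equiv.Perm.sign_swap h01]
    simp
  have hκ : Equiv.swap w₀ w₁ * a * (Equiv.swap w₀ w₁)⁻¹ = a :=
    fp_comm_of_conj a _ (by rw [← Equiv.swap_apply_apply, hw₀, hw₁])
  have hσa : (Equiv.swap y w₀ * Equiv.swap w₀ w₁) * a * (Equiv.swap y w₀ * Equiv.swap w₀ w₁)⁻¹
      = Equiv.swap y w₀ * a * Equiv.swap y w₀ := by
    rw [fp_conj_of_comm a _ _ hκ, Equiv.swap_inv]
  refine fp_concl_of_move a b (Equiv.swap y w₀ * Equiv.swap w₀ w₁) h hσ hh x ?_ ?_ ?_
  · intro z hz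
    rw [hσa] at hz
    rw [← hc] at hz ⊢
    refine fp_swap_move a c y w₀ ?_ ?_ ?_ ?_ z hz
    · by_cases e1 : c y = w₀
      · rw [e1, Equiv.swap_apply_right, ← hx]
        exact hxw₀
      · have e2 : c y ≠ y := by
          intro h'
          exact hxy (c.injective (by rw [hcx, h']))
        rw [Equiv.swap_apply_of_ne_of_ne e2 e1]
        intro h'
        exact e1 (a.injective (by rw [h', hw₀]))
    · by_cases e1 : c w₀ = w₀
      · rw [e1, Equiv.swap_apply_right, ← hx]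
        exact hxy
      · have e2 : c w₀ ≠ y := by
          intro h'
          exact hxw₀ (c.injective (by rw [hcx, h']))
        rw [Equiv.swap_apply_of_ne_of_ne e2 e1]
        exact hcw
    · rw [hw₀]
      intro h'
      exact hxw₀ (c.injective (by rw [hcx, h']))
    · rw [← hx, hcx]
      exact hyw₀
  · rw [← hc, Equiv.Perm.mul_apply, hcx, ← hx]
  · rw [hσa, ← hc]
    simp only [Equiv.Perm.mul_apply]
    rw [hcx, Equiv.swap_apply_left, hw₀, Equiv.swap_apply_right]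
    exact hxy.symm

/-- Case B: `a` has two 2-cycles (and there is a fifth point). -/
theorem fp_caseB {α : Type*} [DecidableEq α] [Fintype α] (a b : Equiv.Perm α) (hb : b ≠ 1)
    (x y w w' s : α) (hax : a x = y) (hay : a y = x) (hxy : x ≠ y)
    (haw : a w = w') (haw' : a w' = w) (hww : w ≠ w') (hwx : w ≠ x) (hwy : w ≠ y)
    (hsx : s ≠ x) (hsy : s ≠ y) (hsw : s ≠ w) (hsw' : s ≠ w') : fp_Concl a b := by
  have hw'x : w' ≠ x := by
    intro h
    exact hwy (a.injective (by rw [haw, h, hay]))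
  have hw'y : w' ≠ y := by
    intro h
    exact hwx (a.injective (by rw [haw, h, hax]))
  obtain ⟨u, hu⟩ := fp_exists_moved b hb
  obtain ⟨h₀, h₀u, h₀v, h₀v'⟩ : ∃ h₀ : Equiv.Perm α, h₀ u = x ∧ h₀ (b u) = y ∧
      (h₀ (b (b u)) = x ∨ h₀ (b (b u)) = s) := by
    by_cases hbb : b (b u) = u
    · obtain ⟨h₀, e1, e2⟩ := fp_ex2 u (b u) x y (Ne.symm hu) hxy
      exact ⟨h₀, e1, e2, Or.inl (by rw [hbb, e1])⟩
    · have hne : b u ≠ b (b u) := fun h => hu (b.injective h.symm)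
      obtain ⟨h₀, e1, e2, e3⟩ := fp_ex3 u (b u) (b (b u)) x y s (Ne.symm hu) (Ne.symm hbb) hne
        hxy hsx.symm hsy.symm
      exact ⟨h₀, e1, e2, Or.inr e3⟩
  obtain ⟨h, hh, hfix⟩ := fp_even_fix h₀ w w' hww
  have hhu : h u = x := by
    rw [hfix u (by rw [h₀u]; exact hwx.symm) (by rw [h₀u]; exact hw'x.symm), h₀u]
  have hhv : h (b u) = y := by
    rw [hfix (b u) (by rw [h₀v]; exact hwy.symm) (by rw [h₀v]; exact hw'y.symm), h₀v]
  have hhv' : h (b (b u)) = x ∨ h (b (b u)) = s := by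
    rcases h₀v' with e | e
    · left
      rw [hfix _ (by rw [e]; exact hwx.symm) (by rw [e]; exact hw'x.symm), e]
    · right
      rw [hfix _ (by rw [e]; exact hsw) (by rw [e]; exact hsw'), e]
  obtain ⟨c, hc⟩ : ∃ c, c = h * b * h⁻¹ := ⟨_, rfl⟩
  have hcx : c x = y := by rw [hc, ← hhu, fp_conj_apply, hhv]
  have hcy : c y = x ∨ c y = s := by
    have e : c y = h (b (b u)) := by rw [hc, ← hhv, fp_conj_apply]
    rw [e]
    exact hhv'
  obtain ⟨w₀, w₁, h01, haw₀, haw₁, hw₀x, hw₀y, hw₁x, hw₁y, hsw₀, hsw₁, hcw⟩ :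
      ∃ w₀ w₁, w₀ ≠ w₁ ∧ a w₀ = w₁ ∧ a w₁ = w₀ ∧ w₀ ≠ x ∧ w₀ ≠ y ∧ w₁ ≠ x ∧ w₁ ≠ y ∧
        s ≠ w₀ ∧ s ≠ w₁ ∧ c w₀ ≠ x := by
    by_cases hcase : c w = x
    · refine ⟨w', w, hww.symm, haw', haw, hw'x, hw'y, hwx, hwy, hsw', hsw, ?_⟩
      intro h2
      exact hww (c.injective (by rw [hcase, h2]))
    · exact ⟨w, w', hww, haw, haw', hwx, hwy, hw'x, hw'y, hsw, hsw', hcase⟩
  have hσ : Equiv.swap y w₀ * Equiv.swap x y ∈ alternatingGroup α := by
    rw [Equiv.Perm.mem_alternatingGroup, Equiv.Perm.sign_mul, Equiv.Perm.sign_swap hw₀y.symm,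
      Equiv.Perm.sign_swap hxy]
    simp
  have hκ : Equiv.swap x y * a * (Equiv.swap x y)⁻¹ = a :=
    fp_comm_of_conj a _ (by rw [← Equiv.swap_apply_apply, hax, hay, Equiv.swap_comm])
  have hσa : (Equiv.swap y w₀ * Equiv.swap x y) * a * (Equiv.swap y w₀ * Equiv.swap x y)⁻¹
      = Equiv.swap y w₀ * a * Equiv.swap y w₀ := by
    rw [fp_conj_of_comm a _ _ hκ, Equiv.swap_inv]
  refine fp_concl_of_move a b (Equiv.swap y w₀ * Equiv.swap x y) h hσ hh x ?_ ?_ ?_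
  · intro z hz
    rw [hσa] at hz
    rw [← hc] at hz ⊢
    refine fp_swap_move a c y w₀ ?_ ?_ ?_ ?_ z hz
    · rcases hcy with e | e
      · rw [e, Equiv.swap_apply_of_ne_of_ne hxy hw₀x.symm, hax]
        exact hw₀y.symm
      · rw [e, Equiv.swap_apply_of_ne_of_ne hsy hsw₀]
        intro h'
        exact hsw₁ (a.injective (by rw [h', haw₁]))
    · by_cases e1 : c w₀ = w₀
      · rw [e1, Equiv.swap_apply_right, hay]
        exact hxy
      · have e2 : c w₀ ≠ y := by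
          intro h'
          exact hw₀x (c.injective (by rw [hcx, h'])).symm
        rw [Equiv.swap_apply_of_ne_of_ne e2 e1]
        intro h'
        exact hcw (a.injective (by rw [h', hax]))
    · rw [haw₀]
      intro h'
      exact hw₁x (c.injective (by rw [hcx, h'])).symm
    · rw [hay, hcx]
      exact hw₀y.symm
  · rw [← hc, Equiv.Perm.mul_apply, hcx, hay]
  · rw [hσa, ← hc]
    simp only [Equiv.Perm.mul_apply]
    rw [hcx, Equiv.swap_apply_left, haw₀, Equiv.swap_apply_of_ne_of_ne hw₁y h01.symm]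
    exact hw₁x

/-- Case C: `a` has a 3-cycle and a 2-cycle, `b` has a cycle of length at least 3. -/
theorem fp_caseC {α : Type*} [DecidableEq α] [Fintype α] (a b : Equiv.Perm α)
    (x y z w w' u : α) (hay : a y = x) (haz : a z = y) (hax : a x = z)
    (hxy : x ≠ y) (hyz : y ≠ z) (hxz : x ≠ z)
    (haw : a w = w') (haw' : a w' = w) (hww : w ≠ w') (hwx : w ≠ x) (hwy : w ≠ y) (hwz : w ≠ z)
    (hu : b u ≠ u) (hu2 : b (b u) ≠ u) : fp_Concl a b := by
  have hw'x : w' ≠ x := by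
    intro h
    exact hwy (a.injective (by rw [haw, h, hay]))
  have hw'y : w' ≠ y := by
    intro h
    exact hwz (a.injective (by rw [haw, h, haz]))
  obtain ⟨h₀, h₀u, h₀v⟩ := fp_ex2 u (b u) x y (Ne.symm hu) hxy
  obtain ⟨h, hh, hfix⟩ := fp_even_fix h₀ w w' hww
  have hhu : h u = x := by
    rw [hfix u (by rw [h₀u]; exact hwx.symm) (by rw [h₀u]; exact hw'x.symm), h₀u]
  have hhv : h (b u) = y := by
    rw [hfix (b u) (by rw [h₀v]; exact hwy.symm) (by rw [h₀v]; exact hw'y.symm), h₀v]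
  obtain ⟨c, hc⟩ : ∃ c, c = h * b * h⁻¹ := ⟨_, rfl⟩
  have hcx : c x = y := by rw [hc, ← hhu, fp_conj_apply, hhv]
  have hcy : c y ≠ x := by
    have e : c y = h (b (b u)) := by rw [hc, ← hhv, fp_conj_apply]
    rw [e, ← hhu]
    intro h'
    exact hu2 (h.injective h')
  have hcyy : c y ≠ y := by
    intro h'
    exact hxy (c.injective (by rw [hcx, h']))
  have hσ : Equiv.swap x y * Equiv.swap w w' ∈ alternatingGroup α := by
    rw [Equiv.Perm.mem_alternatingGroup, Equiv.Perm.sign_mul, Equiv.Perm.sign_swap hxy,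
      Equiv.Perm.sign_swap hww]
    simp
  have hκ : Equiv.swap w w' * a * (Equiv.swap w w')⁻¹ = a :=
    fp_comm_of_conj a _ (by rw [← Equiv.swap_apply_apply, haw, haw', Equiv.swap_comm])
  have hσa : (Equiv.swap x y * Equiv.swap w w') * a * (Equiv.swap x y * Equiv.swap w w')⁻¹
      = Equiv.swap x y * a * Equiv.swap x y := by
    rw [fp_conj_of_comm a _ _ hκ, Equiv.swap_inv]
  refine fp_concl_of_move a b (Equiv.swap x y * Equiv.swap w w') h hσ hh x ?_ ?_ ?_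
  · intro t ht
    rw [hσa] at ht
    rw [← hc] at ht ⊢
    refine fp_swap_move a c x y ?_ ?_ ?_ ?_ t ht
    · rw [hcx, Equiv.swap_apply_right, hax]
      exact hyz.symm
    · rw [Equiv.swap_apply_of_ne_of_ne hcy hcyy]
      intro h'
      exact hcyy (a.injective (by rw [h', hay]))
    · rw [hay, hcx]
      exact hxy.symm
    · rw [hax]
      intro h'
      exact hxz (c.injective (by rw [hcx, h']))
  · rw [← hc, Equiv.Perm.mul_apply, hcx, hay]
  · rw [hσa, ← hc]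
    simp only [Equiv.Perm.mul_apply]
    rw [hcx, Equiv.swap_apply_right, hax, Equiv.swap_apply_of_ne_of_ne hxz.symm hyz.symm]
    exact hxz.symm

end Cfsg.Agent.Helper19
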