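import Cfsg.Agent.Helper19.FixProd1

set_option autoImplicit false

namespace Cfsg.Agent.Helper19

/-- Case D: `a` has two 3-cycles, `b` has a cycle of length at least 3. -/
theorem fp_caseD {α : Type*} [DecidableEq α] [Fintype α] (a b : Equiv.Perm α)
    (x y z x' y' z' u : α) (hay : a y = x) (haz : a z = y) (hax : a x = z)
    (hxy : x ≠ y) (hyz : y ≠ z) (hxz : x ≠ z)
    (hay' : a y' = x') (haz' : a z' = y') (hax' : a x' = z')
    (hz'x : z' ≠ x) (hz'y : z' ≠ y) (hz'z : z' ≠ z) (hy'z' : y' ≠ z')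
    (hu : b u ≠ u) (hu2 : b (b u) ≠ u) : fp_Concl a b := by
  have hy'x : y' ≠ x := by
    intro h
    exact hz'y (a.injective (by rw [haz', h, hay]))
  have hy'y : y' ≠ y := by
    intro h
    exact hz'z (a.injective (by rw [haz', h, haz]))
  have hy'z : y' ≠ z := by
    intro h
    exact hz'x (a.injective (by rw [haz', h, hax]))
  have hx'x : x' ≠ x := by
    intro h
    exact hy'y (a.injective (by rw [hay', h, hay]))
  have hx'y : x' ≠ y := by
    intro h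
    exact hy'z (a.injective (by rw [hay', h, haz]))
  have hx'z : x' ≠ z := by
    intro h
    exact hy'x (a.injective (by rw [hay', h, hax]))
  have hx'y' : x' ≠ y' := by
    intro h
    exact hy'z' (a.injective (by rw [hay', h, haz']))
  have hx'z' : x' ≠ z' := by
    intro h
    exact hx'y' (a.injective (by rw [hax', ← h, hay'])).symm
  have hne : b u ≠ b (b u) := fun h => hu (b.injective h.symm)
  obtain ⟨h₀, h₀u, h₀v, h₀v'⟩ := fp_ex3 u (b u) (b (b u)) y z x (Ne.symm hu) (Ne.symm hu2) hne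
    hyz hxy.symm hxz.symm
  obtain ⟨h, hh, hfix⟩ := fp_even_fix h₀ x' y' hx'y'
  have hhu : h u = y := by
    rw [hfix u (by rw [h₀u]; exact hx'y.symm) (by rw [h₀u]; exact hy'y.symm), h₀u]
  have hhv : h (b u) = z := by
    rw [hfix (b u) (by rw [h₀v]; exact hx'z.symm) (by rw [h₀v]; exact hy'z.symm), h₀v]
  have hhv' : h (b (b u)) = x := by
    rw [hfix (b (b u)) (by rw [h₀v']; exact hx'x.symm) (by rw [h₀v']; exact hy'x.symm), h₀v']
  obtain ⟨c, hc⟩ : ∃ c, c = h * b * h⁻¹ := ⟨_, rfl⟩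
  have hcy : c y = z := by rw [hc, ← hhu, fp_conj_apply, hhv]
  have hcz : c z = x := by rw [hc, ← hhv, fp_conj_apply, hhv']
  -- the commuting odd permutation
  have e1 : a * Equiv.swap x x' * a⁻¹ = Equiv.swap z z' := by
    rw [← Equiv.swap_apply_apply, hax, hax']
  have e2 : a * Equiv.swap y y' * a⁻¹ = Equiv.swap x x' := by
    rw [← Equiv.swap_apply_apply, hay, hay']
  have e3 : a * Equiv.swap z z' * a⁻¹ = Equiv.swap y y' := by
    rw [← Equiv.swap_apply_apply, haz, haz']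
  have c1 : Equiv.swap z z' * Equiv.swap x x' = Equiv.swap x x' * Equiv.swap z z' :=
    fp_swap_comm z z' x x' hxz hz'x.symm hx'z hx'z'
  have c2 : Equiv.swap z z' * Equiv.swap y y' = Equiv.swap y y' * Equiv.swap z z' :=
    fp_swap_comm z z' y y' hyz hz'y.symm hy'z hy'z'
  have hρ1 : a * (Equiv.swap x x' * Equiv.swap y y' * Equiv.swap z z') * a⁻¹
      = Equiv.swap x x' * Equiv.swap y y' * Equiv.swap z z' := by
    calc a * (Equiv.swap x x' * Equiv.swap y y' * Equiv.swap z z') * a⁻¹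
        = (a * Equiv.swap x x' * a⁻¹) * (a * Equiv.swap y y' * a⁻¹) *
          (a * Equiv.swap z z' * a⁻¹) := by group
      _ = Equiv.swap z z' * Equiv.swap x x' * Equiv.swap y y' := by rw [e1, e2, e3]
      _ = Equiv.swap x x' * (Equiv.swap z z' * Equiv.swap y y') := by rw [c1, mul_assoc]
      _ = Equiv.swap x x' * Equiv.swap y y' * Equiv.swap z z' := by rw [c2, mul_assoc]
  have hκ := fp_comm_of_conj a _ hρ1
  have hσ : Equiv.swap z z' * (Equiv.swap x x' * Equiv.swap y y' * Equiv.swap z z')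
      ∈ alternatingGroup α := by
    rw [Equiv.Perm.mem_alternatingGroup, Equiv.Perm.sign_mul, Equiv.Perm.sign_mul,
      Equiv.Perm.sign_mul, Equiv.Perm.sign_swap hz'z.symm, Equiv.Perm.sign_swap hx'x.symm,
      Equiv.Perm.sign_swap hy'y.symm]
    simp
  have hσa : (Equiv.swap z z' * (Equiv.swap x x' * Equiv.swap y y' * Equiv.swap z z')) * a *
      (Equiv.swap z z' * (Equiv.swap x x' * Equiv.swap y y' * Equiv.swap z z'))⁻¹
      = Equiv.swap z z' * a * Equiv.swap z z' := by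
    rw [fp_conj_of_comm a _ _ hκ, Equiv.swap_inv]
  refine fp_concl_of_move a b
    (Equiv.swap z z' * (Equiv.swap x x' * Equiv.swap y y' * Equiv.swap z z')) h hσ hh y ?_ ?_ ?_
  · intro t ht
    rw [hσa] at ht
    rw [← hc] at ht ⊢
    refine fp_swap_move a c z z' ?_ ?_ ?_ ?_ t ht
    · rw [hcz, Equiv.swap_apply_of_ne_of_ne hxz hz'x.symm, hax]
      exact hz'z.symm
    · have e_x : c z' ≠ x := by
        intro h'
        exact hz'z (c.injective (by rw [hcz, h']))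
      have e_z : c z' ≠ z := by
        intro h'
        exact hz'y (c.injective (by rw [hcy, h']))
      by_cases e1' : c z' = z'
      · rw [e1', Equiv.swap_apply_right, haz]
        exact hyz
      · rw [Equiv.swap_apply_of_ne_of_ne e_z e1']
        intro h'
        exact e_x (a.injective (by rw [h', hax]))
    · rw [haz']
      intro h'
      exact hy'y (c.injective (by rw [hcy, h']))
    · rw [haz, hcy]
      exact hz'z.symm
  · rw [← hc, Equiv.Perm.mul_apply, hcy, haz]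
  · rw [hσa, ← hc]
    simp only [Equiv.Perm.mul_apply]
    rw [hcy, Equiv.swap_apply_left, haz', Equiv.swap_apply_of_ne_of_ne hy'z hy'z']
    exact hy'y

theorem fp_three_move {α : Type*} (a c σ : Equiv.Perm α) (x y z p : α)
    (hσx : σ x = y) (hσy : σ y = z) (hσz : σ z = x)
    (hσt : ∀ t, t ≠ x → t ≠ y → t ≠ z → σ t = t)
    (haz : a z = y) (hax : a x = p)
    (hxy : x ≠ y) (hxz : x ≠ z) (hpz : p ≠ z)
    (hcx : c x = y) (hcy : c y = z) (hcz : c z ≠ x) :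
    ∀ t, (σ * a * σ⁻¹ * c) t = t → (a * c) t = t := by
  intro t ht
  simp only [Equiv.Perm.mul_apply] at ht ⊢
  have i1 : σ⁻¹ y = x := by rw [Equiv.Perm.inv_eq_iff_eq]; exact hσx.symm
  have i2 : σ⁻¹ z = y := by rw [Equiv.Perm.inv_eq_iff_eq]; exact hσy.symm
  have i3 : σ⁻¹ x = z := by rw [Equiv.Perm.inv_eq_iff_eq]; exact hσz.symm
  have inv_fix : ∀ t, t ≠ x → t ≠ y → t ≠ z → σ⁻¹ t = t := by
    intro t h1 h2 h3
    rw [Equiv.Perm.inv_eq_iff_eq]
    exact (hσt t h1 h2 h3).symm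
  have ht' : a (σ⁻¹ (c t)) = σ⁻¹ t := by
    rw [Equiv.Perm.eq_inv_iff_eq]
    exact ht
  by_cases r_x : c t = x
  · have t1 : t ≠ x := by
      intro e
      rw [e, hcx] at r_x
      exact hxy r_x.symm
    have t2 : t ≠ y := by
      intro e
      rw [e, hcy] at r_x
      exact hxz r_x.symm
    have t3 : t ≠ z := by
      intro e
      rw [e] at r_x
      exact hcz r_x
    rw [r_x, i3, haz, inv_fix t t1 t2 t3] at ht'
    exact absurd ht'.symm t2
  by_cases r_y : c t = y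
  · have tx : t = x := c.injective (by rw [r_y, hcx])
    rw [r_y, i1, hax, tx, i3] at ht'
    exact absurd ht' hpz
  by_cases r_z : c t = z
  · have ty : t = y := c.injective (by rw [r_z, hcy])
    rw [ty, hcy, haz]
  · rw [inv_fix (c t) r_x r_y r_z] at ht'
    by_cases t_x : t = x
    · exact absurd (by rw [t_x, hcx]) r_y
    by_cases t_y : t = y
    · exact absurd (by rw [t_y, hcy]) r_z
    by_cases t_z : t = z
    · rw [t_z, i2] at ht'
      have : c z = z := a.injective (by rw [ht', haz])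
      exact absurd (by rw [t_z]; exact this) r_z
    · rw [inv_fix t t_x t_y t_z] at ht'
      exact ht'

/-- Case E: both `a` and `b` have a cycle of length at least 4. -/
theorem fp_caseE {α : Type*} [DecidableEq α] [Fintype α] (a b : Equiv.Perm α)
    (x y z p u₀ u₁ u₂ u₃ s : α) (haz : a z = y) (hay : a y = x) (hax : a x = p)
    (hxy : x ≠ y) (hyz : y ≠ z) (hxz : x ≠ z) (hpx : p ≠ x) (hpy : p ≠ y) (hpz : p ≠ z)
    (hb0 : b u₀ = u₁) (hb1 : b u₁ = u₂) (hb2 : b u₂ = u₃)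
    (hu01 : u₀ ≠ u₁) (hu02 : u₀ ≠ u₂) (hu12 : u₁ ≠ u₂) (hu30 : u₃ ≠ u₀)
    (hsx : s ≠ x) (hsy : s ≠ y) (hsz : s ≠ z) (hsp : s ≠ p) : fp_Concl a b := by
  obtain ⟨h₀, h₀0, h₀1, h₀2⟩ := fp_ex3 u₀ u₁ u₂ x y z hu01 hu02 hu12 hxy hxz hyz
  obtain ⟨h, hh, hfix⟩ := fp_even_fix h₀ p s hsp.symm
  have hh0 : h u₀ = x := by
    rw [hfix u₀ (by rw [h₀0]; exact hpx.symm) (by rw [h₀0]; exact hsx.symm), h₀0]
  have hh1 : h u₁ = y := by
    rw [hfix u₁ (by rw [h₀1]; exact hpy.symm) (by rw [h₀1]; exact hsy.symm), h₀1]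
  have hh2 : h u₂ = z := by
    rw [hfix u₂ (by rw [h₀2]; exact hpz.symm) (by rw [h₀2]; exact hsz.symm), h₀2]
  obtain ⟨c, hc⟩ : ∃ c, c = h * b * h⁻¹ := ⟨_, rfl⟩
  have hcx : c x = y := by rw [hc, ← hh0, fp_conj_apply, hb0, hh1]
  have hcy : c y = z := by rw [hc, ← hh1, fp_conj_apply, hb1, hh2]
  have hcz : c z ≠ x := by
    have e : c z = h u₃ := by rw [hc, ← hh2, fp_conj_apply, hb2]
    rw [e, ← hh0]
    intro h'
    exact hu30 (h.injective h')
  have hσx : (Equiv.swap x y * Equiv.swap y z) x = y := by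
    rw [Equiv.Perm.mul_apply, Equiv.swap_apply_of_ne_of_ne hxy hxz, Equiv.swap_apply_left]
  have hσy : (Equiv.swap x y * Equiv.swap y z) y = z := by
    rw [Equiv.Perm.mul_apply, Equiv.swap_apply_left,
      Equiv.swap_apply_of_ne_of_ne hxz.symm hyz.symm]
  have hσz : (Equiv.swap x y * Equiv.swap y z) z = x := by
    rw [Equiv.Perm.mul_apply, Equiv.swap_apply_right, Equiv.swap_apply_right]
  have hσt : ∀ t, t ≠ x → t ≠ y → t ≠ z → (Equiv.swap x y * Equiv.swap y z) t = t := by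
    intro t h1 h2 h3
    rw [Equiv.Perm.mul_apply, Equiv.swap_apply_of_ne_of_ne h2 h3,
      Equiv.swap_apply_of_ne_of_ne h1 h2]
  have hσ : Equiv.swap x y * Equiv.swap y z ∈ alternatingGroup α := by
    rw [Equiv.Perm.mem_alternatingGroup, Equiv.Perm.sign_mul, Equiv.Perm.sign_swap hxy,
      Equiv.Perm.sign_swap hyz]
    simp
  refine fp_concl_of_move a b (Equiv.swap x y * Equiv.swap y z) h hσ hh x ?_ ?_ ?_
  · intro t ht
    rw [← hc] at ht ⊢
    exact fp_three_move a c _ x y z p hσx hσy hσz hσt haz hax hxy hxz hpz hcx hcy hcz t ht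
  · rw [← hc, Equiv.Perm.mul_apply, hcx, hay]
  · rw [← hc]
    simp only [Equiv.Perm.mul_apply]
    have i1 : (Equiv.swap x y * Equiv.swap y z)⁻¹ y = x := by
      rw [Equiv.Perm.inv_eq_iff_eq]
      exact hσx.symm
    rw [hcx, i1, hax, Equiv.swap_apply_of_ne_of_ne hpy hpz,
      Equiv.swap_apply_of_ne_of_ne hpx hpy]
    exact hpx

theorem fp_P3_of {α : Type*} [DecidableEq α] [Fintype α] (hn : 5 ≤ Fintype.card α)
    (π : Equiv.Perm α) (hπ : π ≠ 1)
    (h1 : ¬ ∃ w w', w ≠ w' ∧ π w = w ∧ π w' = w')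
    (h2 : ¬ ∃ x w, π x ≠ x ∧ π (π x) = x ∧ π w ≠ w ∧ π (π w) = w ∧ w ≠ x ∧ w ≠ π x) :
    ∃ u, π u ≠ u ∧ π (π u) ≠ u := by
  by_contra hno
  push Not at hno
  obtain ⟨u, hu⟩ := fp_exists_moved π hπ
  obtain ⟨t₁, ht₁⟩ := fp_exists_outside ({u, π u} : Finset α)
    (lt_of_le_of_lt Finset.card_le_two (by omega))
  obtain ⟨t₂, ht₂⟩ := fp_exists_outside ({t₁, u, π u} : Finset α)
    (lt_of_le_of_lt Finset.card_le_three (by omega))
  simp only [Finset.mem_insert, Finset.mem_singleton, not_or] at ht₁ ht₂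
  have hmoved : ∃ t, t ≠ u ∧ t ≠ π u ∧ π t ≠ t := by
    by_cases e1 : π t₁ = t₁
    · by_cases e2 : π t₂ = t₂
      · exact absurd ⟨t₁, t₂, fun e => ht₂.1 e.symm, e1, e2⟩ h1
      · exact ⟨t₂, ht₂.2.1, ht₂.2.2, e2⟩
    · exact ⟨t₁, ht₁.1, ht₁.2, e1⟩
  obtain ⟨t, htu, htv, ht⟩ := hmoved
  exact h2 ⟨u, t, hu, hno u hu, ht, hno t ht, htu, htv⟩

theorem fp_small_cycles {α : Type*} [DecidableEq α] [Fintype α] (hn : 5 ≤ Fintype.card α)
    (a b : Equiv.Perm α)
    (h1 : ¬ ∃ w w', w ≠ w' ∧ a w = w ∧ a w' = w')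
    (hP4 : ¬ ∃ z, z ≠ a z ∧ z ≠ a (a z) ∧ z ≠ a (a (a z)))
    (hP3a : ∃ u, a u ≠ u ∧ a (a u) ≠ u) (hP3b : ∃ u, b u ≠ u ∧ b (b u) ≠ u) :
    fp_Concl a b := by
  obtain ⟨z, hz1, hz2⟩ := hP3a
  obtain ⟨u, hu1, hu2⟩ := hP3b
  have hcyc : ∀ t, a t ≠ t → a (a t) ≠ t → a (a (a t)) = t := by
    intro t e1 e2
    by_contra e3
    exact hP4 ⟨t, fun e => e1 e.symm, fun e => e2 e.symm, fun e => e3 e.symm⟩
  have hz3 := hcyc z hz1 hz2
  obtain ⟨t₁, ht₁⟩ := fp_exists_outside ({z, a z, a (a z)} : Finset α)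
    (lt_of_le_of_lt Finset.card_le_three (by omega))
  obtain ⟨t₂, ht₂⟩ := fp_exists_outside ({t₁, z, a z, a (a z)} : Finset α)
    (lt_of_le_of_lt Finset.card_le_four (by omega))
  simp only [Finset.mem_insert, Finset.mem_singleton, not_or] at ht₁ ht₂
  have hmoved : ∃ w, w ≠ z ∧ w ≠ a z ∧ w ≠ a (a z) ∧ a w ≠ w := by
    by_cases e1 : a t₁ = t₁
    · by_cases e2 : a t₂ = t₂
      · exact absurd ⟨t₁, t₂, fun e => ht₂.1 e.symm, e1, e2⟩ h1
      · exact ⟨t₂, ht₂.2.1, ht₂.2.2.1, ht₂.2.2.2, e2⟩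
    · exact ⟨t₁, ht₁.1, ht₁.2.1, ht₁.2.2, e1⟩
  obtain ⟨w, hwz, hwy, hwx, hw⟩ := hmoved
  have hxy : a (a z) ≠ a z := fun e => hz1 (a.injective e)
  by_cases hw2 : a (a w) = w
  · exact fp_caseC a b (a (a z)) (a z) z w (a w) u rfl rfl hz3 hxy hz1 hz2 rfl hw2
      (Ne.symm hw) hwx hwy hwz hu1 hu2
  · have hw3 := hcyc w hw hw2
    exact fp_caseD a b (a (a z)) (a z) z (a (a w)) (a w) w u rfl rfl hz3 hxy hz1 hz2
      rfl rfl hw3 hwx hwy hwz hw hu1 hu2

theorem fp_main {α : Type*} [DecidableEq α] [Fintype α] (hn : 5 ≤ Fintype.card α)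
    (a b : Equiv.Perm α) (ha : a ≠ 1) (hb : b ≠ 1) : fp_Concl a b := by
  by_cases hA1 : ∃ w w', w ≠ w' ∧ a w = w ∧ a w' = w'
  · obtain ⟨w, w', h1, h2, h3⟩ := hA1
    exact fp_caseA a b ha hb w w' h1 h2 h3
  by_cases hB1 : ∃ w w', w ≠ w' ∧ b w = w ∧ b w' = w'
  · obtain ⟨w, w', h1, h2, h3⟩ := hB1
    exact fp_symm a b (fp_caseA b a hb ha w w' h1 h2 h3)
  by_cases hA2 : ∃ x w, a x ≠ x ∧ a (a x) = x ∧ a w ≠ w ∧ a (a w) = w ∧ w ≠ x ∧ w ≠ a x
  · obtain ⟨x, w, h1, h2, h3, h4, h5, h6⟩ := hA2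
    obtain ⟨s, hs⟩ := fp_exists_outside ({x, a x, w, a w} : Finset α)
      (lt_of_le_of_lt Finset.card_le_four (by omega))
    simp only [Finset.mem_insert, Finset.mem_singleton, not_or] at hs
    exact fp_caseB a b hb x (a x) w (a w) s rfl h2 (Ne.symm h1) rfl h4 (Ne.symm h3) h5 h6
      hs.1 hs.2.1 hs.2.2.1 hs.2.2.2
  by_cases hB2 : ∃ x w, b x ≠ x ∧ b (b x) = x ∧ b w ≠ w ∧ b (b w) = w ∧ w ≠ x ∧ w ≠ b x
  · obtain ⟨x, w, h1, h2, h3, h4, h5, h6⟩ := hB2
    obtain ⟨s, hs⟩ := fp_exists_outside ({x, b x, w, b w} : Finset α)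
      (lt_of_le_of_lt Finset.card_le_four (by omega))
    simp only [Finset.mem_insert, Finset.mem_singleton, not_or] at hs
    exact fp_symm a b (fp_caseB b a ha x (b x) w (b w) s rfl h2 (Ne.symm h1) rfl h4 (Ne.symm h3)
      h5 h6 hs.1 hs.2.1 hs.2.2.1 hs.2.2.2)
  have hP3a := fp_P3_of hn a ha hA1 hA2
  have hP3b := fp_P3_of hn b hb hB1 hB2
  by_cases hP4a : ∃ z, z ≠ a z ∧ z ≠ a (a z) ∧ z ≠ a (a (a z))
  · by_cases hP4b : ∃ z, z ≠ b z ∧ z ≠ b (b z) ∧ z ≠ b (b (b z))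
    · obtain ⟨z, hz1, hz2, hz3⟩ := hP4a
      obtain ⟨u, hu1, hu2, hu3⟩ := hP4b
      obtain ⟨s, hs⟩ := fp_exists_outside ({a (a z), a z, z, a (a (a z))} : Finset α)
        (lt_of_le_of_lt Finset.card_le_four (by omega))
      simp only [Finset.mem_insert, Finset.mem_singleton, not_or] at hs
      exact fp_caseE a b (a (a z)) (a z) z (a (a (a z))) u (b u) (b (b u)) (b (b (b u))) s
        rfl rfl rfl
        (fun e => hz1 (a.injective e).symm) (fun e => hz1 e.symm) (fun e => hz2 e.symm)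
        (fun e => hz1 (a.injective (a.injective e)).symm)
        (fun e => hz2 (a.injective e).symm) (fun e => hz3 e.symm)
        rfl rfl rfl hu1 hu2 (fun e => hu1 (b.injective e)) (fun e => hu3 e.symm)
        hs.1 hs.2.1 hs.2.2.1 hs.2.2.2
    · exact fp_symm a b (fp_small_cycles hn b a hB1 hP4b hP3b hP3a)
  · exact fp_small_cycles hn a b hA1 hP4a hP3a hP3b

end Cfsg.Agent.Helper19
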