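import Mathlib

set_option autoImplicit false

namespace Cfsg.Agent.Helper19

theorem lcm_replicate_succ (k r : ℕ) : (Multiset.replicate (k + 1) r).lcm = r := by
  induction k with
  | zero => simp
  | succ k ih => rw [Multiset.replicate_succ, Multiset.lcm_cons, ih]; simp

/-- Cycle type of a fixed-point-free permutation of prime order. -/
theorem cycleType_fpf_prime {n : ℕ} (g : Equiv.Perm (Fin n)) (hg : (orderOf g).Prime)
    (hfix : ∀ i : Fin n, g i ≠ i) :
    orderOf g ∣ n ∧ g.cycleType = Multiset.replicate (n / orderOf g) (orderOf g) := by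
  obtain ⟨k, hk⟩ := Equiv.Perm.cycleType_prime_order hg
  have hsupp : g.support = Finset.univ := by
    ext i; simp [Equiv.Perm.mem_support, hfix i]
  have hsum : g.cycleType.sum = n := by
    rw [Equiv.Perm.sum_cycleType, hsupp, Finset.card_univ, Fintype.card_fin]
  rw [hk, Multiset.sum_replicate, smul_eq_mul] at hsum
  have hdvd : orderOf g ∣ n := ⟨k + 1, hsum.symm.trans (mul_comm _ _)⟩
  refine ⟨hdvd, ?_⟩
  have hdiv : n / orderOf g = k + 1 := Nat.div_eq_of_eq_mul_left hg.pos hsum.symm
  rw [hdiv, hk]

/-- For a prime `r` dividing `n` there is a fixed-point-free permutation of order `r`. -/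
theorem exists_fpf_prime {n r : ℕ} (hr : r.Prime) (hrn : r ∣ n) (hn : 0 < n) :
    ∃ g : Equiv.Perm (Fin n), orderOf g = r ∧ ∀ i : Fin n, g i ≠ i := by
  have hex : ∃ g : Equiv.Perm (Fin n), g.cycleType = Multiset.replicate (n / r) r := by
    rw [Equiv.Perm.exists_with_cycleType_iff]
    constructor
    · rw [Multiset.sum_replicate, smul_eq_mul, Fintype.card_fin, Nat.div_mul_cancel hrn]
    · intro a ha
      rw [Multiset.eq_of_mem_replicate ha]
      exact hr.two_le
  obtain ⟨g, hg⟩ := hex
  have hpos : 0 < n / r := Nat.div_pos (Nat.le_of_dvd hn hrn) hr.pos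
  obtain ⟨k, hk⟩ : ∃ k, n / r = k + 1 := ⟨n / r - 1, by omega⟩
  have hord : orderOf g = r := by
    rw [← Equiv.Perm.lcm_cycleType, hg, hk, lcm_replicate_succ]
  refine ⟨g, hord, ?_⟩
  have hsupp : g.support.card = n := by
    rw [← Equiv.Perm.sum_cycleType, hg, Multiset.sum_replicate, smul_eq_mul,
      Nat.div_mul_cancel hrn]
  have huniv : g.support = Finset.univ := by
    rw [← Finset.card_eq_iff_eq_univ, hsupp, Fintype.card_fin]
  intro i
  have : i ∈ g.support := by rw [huniv]; exact Finset.mem_univ i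
  exact Equiv.Perm.mem_support.mp this

end Cfsg.Agent.Helper19
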