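import Mathlib

set_option autoImplicit false

namespace Cfsg.Agent.Helper19

/-- Commuting non-trivial elements of orders powers of distinct primes `p`, `q` give an
element of order `p * q`. -/
theorem exists_orderOf_eq_mul_of_commute {G : Type*} [Group G] {p q : ℕ} (hp : p.Prime)
    (hq : q.Prime) (hpq : p ≠ q) (a b : G) (ha : a ≠ 1) (hb : b ≠ 1)
    (hap : ∃ k, orderOf a = p ^ k) (hbq : ∃ k, orderOf b = q ^ k) (hab : Commute a b) :
    ∃ x : G, orderOf x = p * q := by
  have key : ∀ {u : ℕ} (hu : u.Prime) (c : G), c ≠ 1 → (∃ k, orderOf c = u ^ k) →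
      ∃ j : ℕ, orderOf (c ^ j) = u := by
    intro u hu c hc ⟨k, hk⟩
    have hk0 : k ≠ 0 := by
      rintro rfl
      rw [pow_zero, orderOf_eq_one_iff] at hk
      exact hc hk
    obtain ⟨k', rfl⟩ := Nat.exists_eq_succ_of_ne_zero hk0
    refine ⟨u ^ k', ?_⟩
    have : Fact u.Prime := ⟨hu⟩
    apply orderOf_eq_prime
    · rw [← pow_mul, ← pow_succ, ← hk, pow_orderOf_eq_one]
    · intro h
      have hd := orderOf_dvd_of_pow_eq_one h
      rw [hk] at hd
      have := Nat.le_of_dvd (pow_pos hu.pos _) hd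
      have h2 : u ^ k' < u ^ (k' + 1) := Nat.pow_lt_pow_right hu.one_lt (Nat.lt_succ_self _)
      exact absurd this (not_le.2 h2)
  obtain ⟨i, hi⟩ := key hp a ha hap
  obtain ⟨j, hj⟩ := key hq b hb hbq
  refine ⟨a ^ i * b ^ j, ?_⟩
  rw [(hab.pow_pow i j).orderOf_mul_eq_mul_orderOf_of_coprime
    (by rw [hi, hj]; exact (Nat.coprime_primes hp hq).2 hpq), hi, hj]

/-- A Frobenius-type group `Q ⋊ ⟨z⟩` cannot act fixed-point-freely on an abelian `p`-group:
if a `q`-group `Q ≠ 1` and an element `z` of prime order `r` normalizing `Q` both normalize an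
abelian normal `p`-subgroup `V ≠ 1`, then there is an element of order `pq`, `pr` or `qr`. -/
theorem exists_mixed_order_of_frobenius {G : Type*} [Group G] [Finite G] {p q r : ℕ}
    (hp : p.Prime) (hq : q.Prime) (hr : r.Prime) (hpq : p ≠ q) (hpr : p ≠ r) (hqr : q ≠ r)
    (V : Subgroup G) [hVn : V.Normal] (hVc : ∀ a ∈ V, ∀ b ∈ V, a * b = b * a) (hV1 : V ≠ ⊥)
    (hVp : IsPGroup p V) (Q : Subgroup G) (hQ1 : Q ≠ ⊥) (hQq : IsPGroup q Q)
    (z : G) (hz : orderOf z = r) (hzQ : ∀ y ∈ Q, z * y * z⁻¹ ∈ Q) :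
    (∃ x : G, orderOf x = p * q) ∨ (∃ x : G, orderOf x = p * r) ∨
      (∃ x : G, orderOf x = q * r) := by
  by_contra hcon
  push Not at hcon
  obtain ⟨h1, h2, h3⟩ := hcon
  classical
  have := Fintype.ofFinite Q
  have : Fact q.Prime := ⟨hq⟩
  let _ : CommGroup V :=
    { (inferInstance : Group V) with mul_comm := fun a b => Subtype.ext (hVc a a.2 b b.2) }
  let c : G → V →* V := fun g =>
    { toFun := fun v => ⟨g * v * g⁻¹, hVn.conj_mem v v.2 g⟩
      map_one' := by ext; simp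
      map_mul' := fun a b => by ext; simp [mul_assoc] }
  have c_val : ∀ g (v : V), ((c g v : V) : G) = g * v * g⁻¹ := fun g v => rfl
  have c_mul : ∀ g h (v : V), c (g * h) v = c g (c h v) := by
    intro g h v
    ext
    simp [c_val, mul_assoc]
  have c_one : ∀ v : V, c 1 v = v := by
    intro v
    ext
    simp [c_val]
  have hVord : ∀ v : V, ∃ k, orderOf (v : G) = p ^ k := by
    intro v
    obtain ⟨k, hk⟩ := hVp v
    have hd := orderOf_dvd_of_pow_eq_one hk
    rw [Subgroup.orderOf_coe]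
    obtain ⟨j, -, hj⟩ := (Nat.dvd_prime_pow hp).1 hd
    exact ⟨j, hj⟩
  have hQord : ∀ y : Q, ∃ k, orderOf (y : G) = q ^ k := by
    intro y
    obtain ⟨k, hk⟩ := hQq y
    have hd := orderOf_dvd_of_pow_eq_one hk
    rw [Subgroup.orderOf_coe]
    obtain ⟨j, -, hj⟩ := (Nat.dvd_prime_pow hq).1 hd
    exact ⟨j, hj⟩
  have hzi : ∀ i, 0 < i → i < r → orderOf (z ^ i) = r := by
    intro i hi hir
    have hcop : Nat.Coprime r i := by
      rw [Nat.Prime.coprime_iff_not_dvd hr]
      intro hd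
      have := Nat.le_of_dvd hi hd
      omega
    rw [orderOf_pow' _ (by omega), hz, hcop.gcd_eq_one, Nat.div_one]
  have commute_of_fix : ∀ (g : G) (w : V), c g w = w → Commute (w : G) g := by
    intro g w hw
    have e : g * (w : G) * g⁻¹ = w := congrArg Subtype.val hw
    show (w : G) * g = g * w
    calc (w : G) * g = (g * (w : G) * g⁻¹) * g := by rw [e]
      _ = g * w := by group
  have fixR : ∀ g : G, orderOf g = r → ∀ w : V, c g w = w → w = 1 := by
    intro g hg w hw
    by_contra hw1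
    have hg1 : g ≠ 1 := by
      rintro rfl
      rw [orderOf_one] at hg
      exact hr.ne_one hg.symm
    obtain ⟨x, hx⟩ := exists_orderOf_eq_mul_of_commute hp hr hpr (w : G) g
      (fun h => hw1 (Subtype.ext h)) hg1 (hVord w) ⟨1, by rw [pow_one]; exact hg⟩
      (commute_of_fix g w hw)
    exact h2 x hx
  have fixQ : ∀ y : Q, y ≠ 1 → ∀ w : V, c (y : G) w = w → w = 1 := by
    intro y hy w hw
    by_contra hw1
    obtain ⟨x, hx⟩ := exists_orderOf_eq_mul_of_commute hp hq hpq (w : G) (y : G)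
      (fun h => hw1 (Subtype.ext h)) (fun h => hy (Subtype.ext h)) (hVord w) (hQord y)
      (commute_of_fix y w hw)
    exact h1 x hx
  have PiZ : ∀ w : V, ∏ i ∈ Finset.range r, c (z ^ i) w = 1 := by
    intro w
    apply fixR z hz
    rw [map_prod]
    have e : ∀ i, c z (c (z ^ i) w) = c (z ^ (i + 1)) w := fun i => by rw [pow_succ', c_mul]
    simp only [e]
    have hr0 : c (z ^ r) w = c (z ^ 0) w := by rw [← hz, pow_orderOf_eq_one, pow_zero]
    have e1 := Finset.prod_range_succ' (fun i => c (z ^ i) w) r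
    have e2 := Finset.prod_range_succ (fun i => c (z ^ i) w) r
    rw [e2, hr0] at e1
    exact (mul_right_cancel e1).symm
  obtain ⟨y₀, hy₀⟩ := Subgroup.ne_bot_iff_exists_ne_one.1 hQ1
  have PiQ : ∀ w : V, ∏ y : Q, c (y : G) w = 1 := by
    intro w
    apply fixQ y₀ hy₀
    rw [map_prod]
    exact Fintype.prod_equiv (Equiv.mulLeft y₀) _ _ (fun y => (c_mul _ _ _).symm)
  have hziQ : ∀ (i : ℕ) (y : G), y ∈ Q → z ^ i * y * (z ^ i)⁻¹ ∈ Q := by
    intro i
    induction i with
    | zero => intro y hy; simpa using hy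
    | succ n ih =>
      intro y hy
      have : z ^ (n + 1) * y * (z ^ (n + 1))⁻¹ = z * (z ^ n * y * (z ^ n)⁻¹) * z⁻¹ := by
        rw [pow_succ']; group
      rw [this]
      exact hzQ _ (ih y hy)
  obtain ⟨v, hv1⟩ := Subgroup.ne_bot_iff_exists_ne_one.1 hV1
  have T1 : ∏ g : Q, ∏ i ∈ Finset.range r, c ((g : G) * z ^ i * (g : G)⁻¹) v = 1 := by
    apply Finset.prod_eq_one
    intro g _
    have e : ∀ i, c ((g : G) * z ^ i * (g : G)⁻¹) v = c (g : G) (c (z ^ i) (c (g : G)⁻¹ v)) :=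
      fun i => by rw [c_mul, c_mul]
    simp only [e]
    rw [← map_prod, PiZ, map_one]
  rw [Finset.prod_comm] at T1
  have T2 : ∀ i ∈ Finset.range r, i ≠ 0 → ∏ g : Q, c ((g : G) * z ^ i * (g : G)⁻¹) v = 1 := by
    intro i hi hi0
    have hir := Finset.mem_range.1 hi
    have hzi1 : z ^ i ≠ 1 := by
      intro h
      have := hzi i (by omega) hir
      rw [h, orderOf_one] at this
      exact hr.ne_one this.symm
    let φ : Q → Q := fun g =>
      ⟨(g : G) * (z ^ i * (g : G)⁻¹ * (z ^ i)⁻¹), Q.mul_mem g.2 (hziQ i _ (Q.inv_mem g.2))⟩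
    have hφ : Function.Injective φ := by
      intro g h hgh
      have e : (g : G) * (z ^ i * (g : G)⁻¹ * (z ^ i)⁻¹) =
          (h : G) * (z ^ i * (h : G)⁻¹ * (z ^ i)⁻¹) := congrArg Subtype.val hgh
      by_contra hne
      have hcomm : Commute ((h : G)⁻¹ * (g : G)) (z ^ i) := by
        show (h : G)⁻¹ * (g : G) * z ^ i = z ^ i * ((h : G)⁻¹ * (g : G))
        have e' : (g : G) * z ^ i * (g : G)⁻¹ = (h : G) * z ^ i * (h : G)⁻¹ := by
          have := congrArg (fun t => t * z ^ i) e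
          simpa [mul_assoc] using this
        calc (h : G)⁻¹ * (g : G) * z ^ i
            = (h : G)⁻¹ * ((g : G) * z ^ i * (g : G)⁻¹) * g := by group
          _ = (h : G)⁻¹ * ((h : G) * z ^ i * (h : G)⁻¹) * g := by rw [e']
          _ = z ^ i * ((h : G)⁻¹ * (g : G)) := by group
      have hne' : (h : G)⁻¹ * (g : G) ≠ 1 := by
        intro h1'
        apply hne
        apply Subtype.ext
        have := congrArg (fun t => (h : G) * t) h1'
        simpa using this
      obtain ⟨x, hx⟩ := exists_orderOf_eq_mul_of_commute hq hr hqr _ (z ^ i) hne' hzi1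
        (hQord ⟨_, Q.mul_mem (Q.inv_mem h.2) g.2⟩)
        ⟨1, by rw [pow_one, hzi i (by omega) hir]⟩ hcomm
      exact h3 x hx
    have hφb : Function.Bijective φ := Finite.injective_iff_bijective.1 hφ
    have e1 : ∀ g : Q, c ((g : G) * z ^ i * (g : G)⁻¹) v = c ((φ g : Q) : G) (c (z ^ i) v) := by
      intro g
      rw [← c_mul]
      congr 1
      simp [φ, mul_assoc]
    simp only [e1]
    rw [hφb.prod_comp (fun y : Q => c (y : G) (c (z ^ i) v))]
    exact PiQ _
  have T3 : ∏ g : Q, c ((g : G) * z ^ 0 * (g : G)⁻¹) v = v ^ Fintype.card Q := by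
    simp [c_one]
  have T4 : v ^ Fintype.card Q = 1 := by
    rw [← T3, ← T1]
    symm
    apply Finset.prod_eq_single 0
    · intro i hi hi0
      exact T2 i hi hi0
    · intro h
      exact absurd (Finset.mem_range.2 hr.pos) h
  obtain ⟨b, hb⟩ := IsPGroup.iff_card.1 hQq
  have hd1 : orderOf v ∣ q ^ b := by
    rw [← hb, Nat.card_eq_fintype_card]
    exact orderOf_dvd_of_pow_eq_one T4
  obtain ⟨k, hk⟩ := hVp v
  have hd2 : orderOf v ∣ p ^ k := orderOf_dvd_of_pow_eq_one hk
  have hcop : Nat.Coprime (p ^ k) (q ^ b) :=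
    Nat.Coprime.pow k b ((Nat.coprime_primes hp hq).2 hpq)
  have : orderOf v = 1 := Nat.eq_one_of_dvd_coprimes hcop hd2 hd1
  exact hv1 (orderOf_eq_one_iff.1 this)

end Cfsg.Agent.Helper19
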