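import Mathlib
import Cfsg.Agent.Helper19.FrobSum

set_option autoImplicit false

namespace Cfsg.Agent.Helper19

/-- A normal `p`-subgroup, a normal subgroup `M` of order divisible by `q` and of index
divisible by `r` force an element of order `pq`, `pr` or `qr`. -/
theorem exists_mixed_order_of_normal_pgroup {G : Type*} [Group G] [Finite G] {p q r : ℕ}
    (hp : p.Prime) (hq : q.Prime) (hr : r.Prime) (hpq : p ≠ q) (hpr : p ≠ r) (hqr : q ≠ r)
    (P : Subgroup G) [hPn : P.Normal] (hP1 : P ≠ ⊥) (hPp : IsPGroup p P)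
    (M : Subgroup G) [hMn : M.Normal] (hqM : q ∣ Nat.card M) (hrM : r ∣ M.index) :
    (∃ x : G, orderOf x = p * q) ∨ (∃ x : G, orderOf x = p * r) ∨
      (∃ x : G, orderOf x = q * r) := by
  have : Fact p.Prime := ⟨hp⟩
  have : Fact q.Prime := ⟨hq⟩
  have : Fact r.Prime := ⟨hr⟩
  -- the centre of `P`
  have hVn : (P ⊓ Subgroup.centralizer (P : Set G)).Normal := inferInstance
  have hVc : ∀ a ∈ P ⊓ Subgroup.centralizer (P : Set G),
      ∀ b ∈ P ⊓ Subgroup.centralizer (P : Set G), a * b = b * a := by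
    intro a ha b hb
    exact (Subgroup.mem_centralizer_iff.1 (Subgroup.mem_inf.1 ha).2 b (Subgroup.mem_inf.1 hb).1).symm
  have hV1 : P ⊓ Subgroup.centralizer (P : Set G) ≠ ⊥ := by
    have hnt : Nontrivial P := (Subgroup.nontrivial_iff_ne_bot P).2 hP1
    have hc := hPp.center_nontrivial
    obtain ⟨c, hc1⟩ := exists_ne (1 : Subgroup.center P)
    intro hbot
    have hmem : ((c : P) : G) ∈ P ⊓ Subgroup.centralizer (P : Set G) := by
      refine Subgroup.mem_inf.2 ⟨(c : P).2, ?_⟩
      rw [Subgroup.mem_centralizer_iff]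
      intro h hh
      have := Subgroup.mem_center_iff.1 c.2 ⟨h, hh⟩
      exact congrArg Subtype.val this
    rw [hbot, Subgroup.mem_bot] at hmem
    apply hc1
    apply Subtype.ext
    apply Subtype.ext
    exact hmem
  have hVp : IsPGroup p (P ⊓ Subgroup.centralizer (P : Set G) : Subgroup G) :=
    hPp.to_le inf_le_left
  -- a Sylow `q`-subgroup of `M`
  obtain ⟨Q₀⟩ : Nonempty (Sylow q M) := inferInstance
  have hQ1 : (Q₀ : Subgroup M).map M.subtype ≠ ⊥ := by
    intro h
    rw [(Subgroup.map_eq_bot_iff_of_injective _ M.subtype_injective)] at h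
    exact Q₀.ne_bot_of_dvd_card hqM h
  have hQq : IsPGroup q ((Q₀ : Subgroup M).map M.subtype) := Q₀.isPGroup'.map _
  have hfr := Sylow.normalizer_sup_eq_top Q₀
  have hrN : r ∣ Nat.card (Subgroup.normalizer (((Q₀ : Subgroup M).map M.subtype : Subgroup G) : Set G)) := by
    have h1 := Subgroup.relIndex_sup_right (K := M)
      (H := Subgroup.normalizer (((Q₀ : Subgroup M).map M.subtype : Subgroup G) : Set G))
    rw [hfr, Subgroup.relIndex_top_right] at h1
    rw [h1] at hrM
    exact hrM.trans (Subgroup.relIndex_dvd_card _ _)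
  obtain ⟨z', hz'⟩ := exists_prime_orderOf_dvd_card' r hrN
  have hz : orderOf (z' : G) = r := by rw [Subgroup.orderOf_coe]; exact hz'
  have hzQ : ∀ y ∈ (Q₀ : Subgroup M).map M.subtype,
      (z' : G) * y * (z' : G)⁻¹ ∈ (Q₀ : Subgroup M).map M.subtype := by
    intro y hy
    exact (Subgroup.mem_normalizer_iff.1 z'.2 y).1 hy
  exact exists_mixed_order_of_frobenius hp hq hr hpq hpr hqr
    (P ⊓ Subgroup.centralizer (P : Set G)) hVc hV1 hVp _ hQ1 hQq (z' : G) hz hzQ

/-- Three primes distributed over a normal series `1 ≤ K ≤ M ≤ G` are not pairwise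
non-adjacent in the prime graph. -/
theorem exists_mixed_order_of_normal_series {G : Type*} [Group G] [Finite G]
    (K M : Subgroup G) [hKn : K.Normal] [hMn : M.Normal] (hKM : K ≤ M) {p q r : ℕ}
    (hp : p.Prime) (hq : q.Prime) (hr : r.Prime) (hpq : p ≠ q) (hpr : p ≠ r) (hqr : q ≠ r)
    (hpK : p ∣ Nat.card K) (hqM : q ∣ K.relIndex M) (hrG : r ∣ M.index) :
    (∃ x : G, orderOf x = p * q) ∨ (∃ x : G, orderOf x = p * r) ∨
      (∃ x : G, orderOf x = q * r) := by
  have : Fact p.Prime := ⟨hp⟩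
  obtain ⟨P₀⟩ : Nonempty (Sylow p K) := inferInstance
  have hP'1 : (P₀ : Subgroup K).map K.subtype ≠ ⊥ := by
    intro h
    rw [(Subgroup.map_eq_bot_iff_of_injective _ K.subtype_injective)] at h
    exact P₀.ne_bot_of_dvd_card hpK h
  have hP'p : IsPGroup p ((P₀ : Subgroup K).map K.subtype) := P₀.isPGroup'.map _
  have hfr := Sylow.normalizer_sup_eq_top P₀
  generalize (P₀ : Subgroup K).map K.subtype = P' at hP'1 hP'p hfr
  generalize hN₁ : Subgroup.normalizer (P' : Set G) = N₁ at hfr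
  have hPn : (P'.subgroupOf N₁).Normal := by
    rw [← hN₁]
    exact Subgroup.normal_in_normalizer
  have hP1 : P'.subgroupOf N₁ ≠ ⊥ := by
    rw [Ne, Subgroup.subgroupOf_eq_bot, disjoint_iff,
      inf_of_le_left (by rw [← hN₁]; exact Subgroup.le_normalizer)]
    exact hP'1
  have hPp : IsPGroup p (P'.subgroupOf N₁) := hP'p.comap_subtype
  have hMn' : (M.subgroupOf N₁).Normal := inferInstance
  have hN₁M : N₁ ⊔ M = ⊤ := by
    rw [eq_top_iff, ← hfr]
    exact sup_le_sup_left hKM _
  have hr' : r ∣ (M.subgroupOf N₁).index := by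
    have h1 := Subgroup.relIndex_sup_right (K := M) (H := N₁)
    rw [hN₁M, Subgroup.relIndex_top_right] at h1
    rw [h1] at hrG
    exact hrG
  have hq' : q ∣ Nat.card (M.subgroupOf N₁) := by
    have hsup : (M ⊓ N₁) ⊔ K = M := by
      apply le_antisymm (sup_le inf_le_left hKM)
      intro m hm
      have hmtop : m ∈ N₁ ⊔ K := by rw [hfr]; trivial
      obtain ⟨n, hn, k, hk, rfl⟩ := Subgroup.mem_sup_of_normal_right.1 hmtop
      have hnM : n ∈ M := by
        have := M.mul_mem hm (M.inv_mem (hKM hk))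
        simpa using this
      exact Subgroup.mul_mem_sup (Subgroup.mem_inf.2 ⟨hnM, hn⟩) hk
    have h1 := Subgroup.relIndex_sup_right (K := K) (H := M ⊓ N₁)
    rw [hsup] at h1
    rw [h1] at hqM
    have h2 : Nat.card (M.subgroupOf N₁) = Nat.card (M ⊓ N₁ : Subgroup G) := by
      rw [← Subgroup.inf_subgroupOf_right]
      exact Nat.card_congr (Subgroup.subgroupOfEquivOfLe inf_le_right).toEquiv
    rw [h2]
    exact hqM.trans (Subgroup.relIndex_dvd_card _ _)
  rcases exists_mixed_order_of_normal_pgroup hp hq hr hpq hpr hqr (P'.subgroupOf N₁) hP1 hPp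
    (M.subgroupOf N₁) hq' hr' with ⟨x, hx⟩ | ⟨x, hx⟩ | ⟨x, hx⟩
  · exact Or.inl ⟨x, by rw [Subgroup.orderOf_coe]; exact hx⟩
  · exact Or.inr (Or.inl ⟨x, by rw [Subgroup.orderOf_coe]; exact hx⟩)
  · exact Or.inr (Or.inr ⟨x, by rw [Subgroup.orderOf_coe]; exact hx⟩)

theorem relIndex_eq_card_div {G : Type*} [Group G] [Finite G] {K M : Subgroup G} (hKM : K ≤ M) :
    K.relIndex M = Nat.card M / Nat.card K := by
  have h1 := Subgroup.card_mul_index (K.subgroupOf M)
  have h2 : Nat.card (K.subgroupOf M) = Nat.card K :=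
    Nat.card_congr (Subgroup.subgroupOfEquivOfLe hKM).toEquiv
  rw [h2] at h1
  have hpos : 0 < Nat.card K := Nat.card_pos
  rw [← h1, Nat.mul_div_cancel_left _ hpos]
  rfl

theorem index_eq_card_div {G : Type*} [Group G] [Finite G] (M : Subgroup G) :
    M.index = Nat.card G / Nat.card M := by
  have h1 := Subgroup.card_mul_index M
  have hpos : 0 < Nat.card M := Nat.card_pos
  rw [← h1, Nat.mul_div_cancel_left _ hpos]

end Cfsg.Agent.Helper19
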