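import Mathlib

set_option autoImplicit false

namespace Cfsg.Agent.Helper19

/-- Orbit-stabilizer for a subgroup `K` of an acting group `G`, phrased with the
intersection of `K` with the full point stabilizer. -/
theorem orbit_card_mul {G X : Type*} [Group G] [MulAction G X] [Finite G] (K : Subgroup G)
    (x : X) :
    Nat.card {u : X | ∃ k ∈ K, k • x = u} * Nat.card ↥(K ⊓ MulAction.stabilizer G x)
      = Nat.card K := by
  have h1 : {u : X | ∃ k ∈ K, k • x = u} = MulAction.orbit K x := by
    ext u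
    constructor
    · rintro ⟨k, hk, rfl⟩; exact ⟨⟨k, hk⟩, rfl⟩
    · rintro ⟨k, rfl⟩; exact ⟨k.1, k.2, rfl⟩
  rw [h1]
  have h3 : Nat.card (MulAction.stabilizer K x) = Nat.card ↥(K ⊓ MulAction.stabilizer G x) :=
    Nat.card_congr
      { toFun := fun k => ⟨k.1.1, Subgroup.mem_inf.mpr ⟨k.1.2, k.2⟩⟩
        invFun := fun g => ⟨⟨g.1, (Subgroup.mem_inf.mp g.2).1⟩, (Subgroup.mem_inf.mp g.2).2⟩
        left_inv := fun _ => rfl
        right_inv := fun _ => rfl }
  rw [Nat.card_coe_set_eq, ← MulAction.index_stabilizer, ← h3]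
  exact Subgroup.index_mul_card _

end Cfsg.Agent.Helper19
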