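import Mathlib
import Cfsg.Agent.Helper19.OrbitCard

set_option autoImplicit false

namespace Cfsg.Agent.Helper19

open MulAction

section Basic

variable {G : Type*} [Group G] {Ω : Type*} [MulAction G Ω]

/-- Membership in the orbit of a subgroup, in elementary form. -/
theorem mem_orbit_subgroup (H : Subgroup G) (σ y : Ω) :
    y ∈ orbit H σ ↔ ∃ x ∈ H, x • σ = y := by
  constructor
  · rintro ⟨x, rfl⟩; exact ⟨x.1, x.2, rfl⟩
  · rintro ⟨x, hx, rfl⟩; exact ⟨⟨x, hx⟩, rfl⟩

theorem orbit_smul_of_mem (H : Subgroup G) {x : G} (hx : x ∈ H) (ε : Ω) :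
    orbit H (x • ε) = orbit H ε :=
  MulAction.orbit_smul (⟨x, hx⟩ : H) ε

/-- The pointwise stabilizer of a set `P` inside the stabilizer of the point `γ`. -/
def fixKer (G : Type*) [Group G] {Ω : Type*} [MulAction G Ω] (γ : Ω) (P : Set Ω) :
    Subgroup G where
  carrier := {g | g • γ = γ ∧ ∀ y ∈ P, g • y = y}
  mul_mem' := by
    rintro a b ⟨ha, ha'⟩ ⟨hb, hb'⟩
    exact ⟨by rw [mul_smul, hb, ha], fun y hy => by rw [mul_smul, hb' y hy, ha' y hy]⟩
  one_mem' := ⟨one_smul _ _, fun y _ => one_smul _ _⟩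
  inv_mem' := by
    rintro a ⟨ha, ha'⟩
    exact ⟨by rw [inv_smul_eq_iff, ha], fun y hy => by rw [inv_smul_eq_iff, ha' y hy]⟩

theorem mem_fixKer {γ : Ω} {P : Set Ω} {g : G} :
    g ∈ fixKer G γ P ↔ g • γ = γ ∧ ∀ y ∈ P, g • y = y := Iff.rfl

theorem fixKer_le (γ : Ω) (P : Set Ω) : fixKer G γ P ≤ stabilizer G γ := fun _ hg => hg.1

theorem fixKer_normal (γ : Ω) (P : Set Ω)
    (hP : ∀ x ∈ stabilizer G γ, ∀ y ∈ P, x • y ∈ P) :
    stabilizer G γ ≤ Subgroup.normalizer (fixKer G γ P : Set G) := by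
  intro x hx
  have hxγ : x • γ = γ := hx
  have hxγ' : x⁻¹ • γ = γ := by rw [inv_smul_eq_iff, hxγ]
  rw [Subgroup.mem_normalizer_iff]
  intro g
  show g ∈ fixKer G γ P ↔ x * g * x⁻¹ ∈ fixKer G γ P
  rw [mem_fixKer, mem_fixKer]
  constructor
  · rintro ⟨hg, hg'⟩
    refine ⟨?_, fun y hy => ?_⟩
    · rw [mul_smul, mul_smul, hxγ', hg, hxγ]
    · have h1 : x⁻¹ • y ∈ P := hP x⁻¹ (inv_mem hx) y hy
      rw [mul_smul, mul_smul, hg' _ h1, smul_inv_smul]
  · rintro ⟨hg, hg'⟩
    refine ⟨?_, fun y hy => ?_⟩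
    · have h1 : (x * g * x⁻¹) • γ = γ := hg
      rw [mul_smul, mul_smul, hxγ'] at h1
      have h2 : g • γ = x⁻¹ • γ := by rw [eq_inv_smul_iff]; exact h1
      rw [h2, hxγ']
    · have h1 := hg' (x • y) (hP x hx y hy)
      rw [mul_smul, mul_smul, inv_smul_smul] at h1
      exact MulAction.injective x h1

/-- Pointwise stabilizer in `G_γ` of all suborbits of size `S`. -/
def maxKer (G : Type*) [Group G] {Ω : Type*} [MulAction G Ω] (S : ℕ) (γ : Ω) : Subgroup G :=
  fixKer G γ {ε | Nat.card (orbit (stabilizer G γ) ε) = S}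

theorem mem_maxKer {S : ℕ} {γ : Ω} {g : G} :
    g ∈ maxKer G S γ ↔
      g • γ = γ ∧ ∀ ε : Ω, Nat.card (orbit (stabilizer G γ) ε) = S → g • ε = ε := Iff.rfl

theorem maxKer_le (S : ℕ) (γ : Ω) : maxKer G S γ ≤ stabilizer G γ := fixKer_le γ _

theorem maxKer_normal (S : ℕ) (γ : Ω) :
    stabilizer G γ ≤ Subgroup.normalizer (maxKer G S γ : Set G) := by
  apply fixKer_normal
  intro x hx y hy
  show Nat.card (orbit (stabilizer G γ) (x • y)) = S
  rw [orbit_smul_of_mem _ hx]; exact hy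

theorem eq_of_smul_eq_of_regular {N : Subgroup G} (hNreg : ∀ ω : Ω, stabilizer N ω = ⊥)
    {a b : G} (ha : a ∈ N) (hb : b ∈ N) {ω : Ω} (h : a • ω = b • ω) : a = b := by
  have h1 : (⟨b⁻¹ * a, mul_mem (inv_mem hb) ha⟩ : N) ∈ stabilizer N ω := by
    rw [mem_stabilizer_iff]
    show (b⁻¹ * a) • ω = ω
    rw [mul_smul, h, inv_smul_smul]
  rw [hNreg ω, Subgroup.mem_bot] at h1
  have h2 : b⁻¹ * a = 1 := congrArg Subtype.val h1
  exact (inv_mul_eq_one.mp h2).symm

theorem subSize_smul (g : G) (γ ε : Ω) :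
    Nat.card (orbit (stabilizer G (g • γ)) (g • ε)) = Nat.card (orbit (stabilizer G γ) ε) := by
  have h : orbit (stabilizer G (g • γ)) (g • ε)
      = (fun y => g • y) '' orbit (stabilizer G γ) ε := by
    ext y
    rw [mem_orbit_subgroup, Set.mem_image]
    constructor
    · rintro ⟨x, hx, rfl⟩
      refine ⟨(g⁻¹ * x * g) • ε, ?_, ?_⟩
      · rw [mem_orbit_subgroup]
        refine ⟨g⁻¹ * x * g, ?_, rfl⟩
        rw [mem_stabilizer_iff, mul_smul, mul_smul, mem_stabilizer_iff.mp hx, inv_smul_smul]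
      · simp [mul_smul]
    · rintro ⟨z, hz, rfl⟩
      rw [mem_orbit_subgroup] at hz
      obtain ⟨x, hx, rfl⟩ := hz
      refine ⟨g * x * g⁻¹, ?_, ?_⟩
      · rw [mem_stabilizer_iff, mul_smul, mul_smul, inv_smul_smul, mem_stabilizer_iff.mp hx]
      · simp [mul_smul]
  rw [Nat.card_coe_set_eq, Nat.card_coe_set_eq, h]
  exact Set.ncard_image_of_injective _ (MulAction.injective g)

/-- A normal subgroup of a point stabilizer acting primitively on a suborbit is trivial or
transitive on that suborbit. -/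
theorem normal_transitive_on_orbit
    (hep : ∀ (α ω : Ω), IsPreprimitive (stabilizer G α) (orbit (stabilizer G α) ω))
    (α σ : Ω) (N : Subgroup G) (hN : N ≤ stabilizer G α)
    (hNn : stabilizer G α ≤ Subgroup.normalizer (N : Set G))
    (hmove : ∃ n ∈ N, n • σ ≠ σ) : ∀ x ∈ stabilizer G α, ∃ n ∈ N, n • σ = x • σ := by
  obtain ⟨n0, hn0, hn0σ⟩ := hmove
  have hnorm : (N.subgroupOf (stabilizer G α)).Normal :=
    (Subgroup.normal_subgroupOf_iff_le_normalizer hN).mpr hNn
  have hpp := hep α σ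
  have hq : IsQuasiPreprimitive (stabilizer G α) (orbit (stabilizer G α) σ) := inferInstance
  have hne : fixedPoints (N.subgroupOf (stabilizer G α)) (orbit (stabilizer G α) σ)
      ≠ Set.univ := by
    intro hall
    have hmem : (⟨σ, mem_orbit_self σ⟩ : orbit (stabilizer G α) σ)
        ∈ fixedPoints (N.subgroupOf (stabilizer G α)) (orbit (stabilizer G α) σ) := by
      rw [hall]; trivial
    have h1 := hmem ⟨⟨n0, hN hn0⟩, Subgroup.mem_subgroupOf.mpr hn0⟩
    exact hn0σ (congrArg Subtype.val h1)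
  have htr := hq.isPretransitive_of_normal hne
  intro x hx
  obtain ⟨n', hn'⟩ := MulAction.exists_smul_eq (N.subgroupOf (stabilizer G α))
    (⟨σ, mem_orbit_self σ⟩ : orbit (stabilizer G α) σ)
    ((⟨x, hx⟩ : stabilizer G α) • (⟨σ, mem_orbit_self σ⟩ : orbit (stabilizer G α) σ))
  exact ⟨((n' : stabilizer G α) : G), Subgroup.mem_subgroupOf.mp n'.2, congrArg Subtype.val hn'⟩

end Basic

section Finite

variable {G : Type*} [Group G] [Finite G] {Ω : Type*} [Finite Ω] [MulAction G Ω]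

omit [Finite Ω] in
theorem orbit_stab_card (K : Subgroup G) (x : Ω) :
    Nat.card (orbit K x) * Nat.card ↥(K ⊓ stabilizer G x) = Nat.card K := by
  have h := orbit_card_mul K x
  have h1 : {u : Ω | ∃ k ∈ K, k • x = u} = orbit K x := by
    ext u; rw [mem_orbit_subgroup]; rfl
  rw [h1] at h; exact h

omit [Finite G] in
theorem card_stabilizer_eq (htr : IsPretransitive G Ω) (α β : Ω) :
    Nat.card (stabilizer G α) = Nat.card (stabilizer G β) := by
  have h1 := Subgroup.index_mul_card (stabilizer G α)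
  have h2 := Subgroup.index_mul_card (stabilizer G β)
  rw [index_stabilizer_of_transitive] at h1 h2
  have hpos : 0 < Nat.card Ω := by
    have : Nonempty Ω := ⟨α⟩
    exact Nat.card_pos
  exact Nat.eq_of_mul_eq_mul_left hpos (h1.trans h2.symm)

theorem subSize_symm (htr : IsPretransitive G Ω) (α β : Ω) :
    Nat.card (orbit (stabilizer G α) β) = Nat.card (orbit (stabilizer G β) α) := by
  have h1 := orbit_stab_card (stabilizer G α) β
  have h2 := orbit_stab_card (stabilizer G β) α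
  rw [inf_comm, ← card_stabilizer_eq htr α β] at h2
  have hpos : 0 < Nat.card ↥(stabilizer G α ⊓ stabilizer G β) := Nat.card_pos
  exact Nat.eq_of_mul_eq_mul_right hpos (h1.trans h2.symm)

variable [FaithfulSMul G Ω]

theorem stabilizer_sup_eq_top (hprim : IsPreprimitive G Ω)
    (hH : ∀ α : Ω, stabilizer G α ≠ ⊥) {α β : Ω} (hαβ : α ≠ β) :
    stabilizer G α ⊔ stabilizer G β = ⊤ := by
  have hnt : Nontrivial Ω := ⟨⟨α, β, hαβ⟩⟩
  have htr : IsPretransitive G Ω := hprim.toIsPretransitive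
  have hco : IsCoatom (stabilizer G α) :=
    IsPreprimitive.isCoatom_stabilizer_of_isPreprimitive G α
  rcases hco.le_iff.mp (le_sup_left : stabilizer G α ≤ stabilizer G α ⊔ stabilizer G β)
    with h | h
  · exact h
  · exfalso
    have hle : stabilizer G β ≤ stabilizer G α := h ▸ le_sup_right
    have heq : stabilizer G β = stabilizer G α :=
      Subgroup.eq_of_le_of_card_ge hle (card_stabilizer_eq htr α β).le
    obtain ⟨g, hg⟩ := exists_smul_eq G α β
    have hgN : g ∈ Subgroup.normalizer (stabilizer G α : Set G) := by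
      rw [Subgroup.mem_normalizer_iff]
      intro x
      show x ∈ stabilizer G α ↔ g * x * g⁻¹ ∈ stabilizer G α
      have h3 : g * x * g⁻¹ ∈ stabilizer G α ↔ g * x * g⁻¹ ∈ stabilizer G β := by rw [heq]
      rw [h3, mem_stabilizer_iff, mem_stabilizer_iff, ← hg, mul_smul, mul_smul, inv_smul_smul]
      exact ⟨fun h => by rw [h], fun h => MulAction.injective g h⟩
    have hgα : g ∉ stabilizer G α := by
      intro hmem
      rw [mem_stabilizer_iff, hg] at hmem
      exact hαβ hmem.symm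
    have htop : Subgroup.normalizer (stabilizer G α : Set G) = ⊤ := by
      rcases hco.le_iff.mp (Subgroup.le_normalizer (H := stabilizer G α)) with h' | h'
      · exact h'
      · exfalso; exact hgα (h' ▸ hgN)
    apply hH α
    rw [eq_bot_iff]
    intro x hx
    rw [Subgroup.mem_bot]
    apply FaithfulSMul.eq_of_smul_eq_smul (α := Ω)
    intro γ
    obtain ⟨y, rfl⟩ := exists_smul_eq G α γ
    have hy : y ∈ Subgroup.normalizer (stabilizer G α : Set G) := htop ▸ Subgroup.mem_top y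
    have h1 : y⁻¹ * x * y ∈ stabilizer G α := by
      have h4 := (Subgroup.mem_normalizer_iff.mp (inv_mem hy)) x
      rw [inv_inv] at h4
      exact h4.mp hx
    rw [mem_stabilizer_iff, mul_smul, mul_smul, inv_smul_eq_iff] at h1
    rw [one_smul]; exact h1

/-- Key inequality: a normal subgroup `N` of `G_α` fixing `β ≠ α` and moving `σ` forces the
`G_β`-orbit of `σ` to be strictly larger than its `G_α`-orbit. -/
theorem suborbit_lt (hprim : IsPreprimitive G Ω) (hH : ∀ α : Ω, stabilizer G α ≠ ⊥)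
    (hep : ∀ (α ω : Ω), IsPreprimitive (stabilizer G α) (orbit (stabilizer G α) ω))
    {α β σ : Ω} (hαβ : α ≠ β) (N : Subgroup G) (hN : N ≤ stabilizer G α)
    (hNn : stabilizer G α ≤ Subgroup.normalizer (N : Set G)) (hNβ : N ≤ stabilizer G β)
    (hmove : ∃ n ∈ N, n • σ ≠ σ) :
    Nat.card (orbit (stabilizer G α) σ) < Nat.card (orbit (stabilizer G β) σ) := by
  have htr : IsPretransitive G Ω := hprim.toIsPretransitive
  have hsub : orbit (stabilizer G α) σ ⊆ orbit (stabilizer G β) σ := by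
    intro y hy
    rw [mem_orbit_subgroup] at hy ⊢
    obtain ⟨x, hx, rfl⟩ := hy
    obtain ⟨n, hn, hnσ⟩ := normal_transitive_on_orbit hep α σ N hN hNn hmove x hx
    exact ⟨n, hNβ hn, hnσ⟩
  by_contra hcon
  push Not at hcon
  rw [Nat.card_coe_set_eq, Nat.card_coe_set_eq] at hcon
  have heq : orbit (stabilizer G α) σ = orbit (stabilizer G β) σ :=
    Set.eq_of_subset_of_ncard_le hsub hcon (Set.toFinite _)
  let T : Subgroup G :=
    { carrier := {g | ∀ y, y ∈ orbit (stabilizer G α) σ ↔ g • y ∈ orbit (stabilizer G α) σ}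
      mul_mem' := by
        intro a b ha hb y
        rw [mul_smul]; exact (hb y).trans (ha _)
      one_mem' := by intro y; rw [one_smul]
      inv_mem' := by
        intro a ha y
        have h5 := ha (a⁻¹ • y)
        rw [smul_inv_smul] at h5
        exact h5.symm }
  have hT : ∀ (γ : Ω), (∀ y, y ∈ orbit (stabilizer G α) σ ↔ y ∈ orbit (stabilizer G γ) σ) →
      stabilizer G γ ≤ T := by
    intro γ hγ g hg y
    rw [hγ y, hγ (g • y), mem_orbit_subgroup, mem_orbit_subgroup]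
    constructor
    · rintro ⟨x, hx, rfl⟩
      exact ⟨g * x, mul_mem hg hx, mul_smul _ _ _⟩
    · rintro ⟨x, hx, hxy⟩
      refine ⟨g⁻¹ * x, mul_mem (inv_mem hg) hx, ?_⟩
      rw [mul_smul, hxy, inv_smul_smul]
  have hTα : stabilizer G α ≤ T := hT α (fun y => Iff.rfl)
  have hTβ : stabilizer G β ≤ T := hT β (fun y => by rw [heq])
  have hTtop : T = ⊤ := by
    rw [eq_top_iff, ← stabilizer_sup_eq_top hprim hH hαβ]
    exact sup_le hTα hTβ
  obtain ⟨g, hg⟩ := exists_smul_eq G σ α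
  have hgT : g ∈ T := hTtop ▸ Subgroup.mem_top g
  have hα : g • σ ∈ orbit (stabilizer G α) σ := (hgT σ).mp (mem_orbit_self σ)
  rw [hg] at hα
  rw [mem_orbit_subgroup] at hα
  obtain ⟨x, hx, hxσ⟩ := hα
  have hσα : σ = α := MulAction.injective x (hxσ.trans (mem_stabilizer_iff.mp hx).symm)
  obtain ⟨n, hn, hnσ⟩ := hmove
  apply hnσ
  rw [hσα]; exact hN hn

theorem le_maxKer (hprim : IsPreprimitive G Ω) (hH : ∀ α : Ω, stabilizer G α ≠ ⊥)
    (hep : ∀ (α ω : Ω), IsPreprimitive (stabilizer G α) (orbit (stabilizer G α) ω)) (S : ℕ)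
    (hS : ∀ γ ε : Ω, Nat.card (orbit (stabilizer G γ) ε) ≤ S) {γ δ : Ω} (hγδ : γ ≠ δ)
    (N : Subgroup G) (hN : N ≤ stabilizer G γ)
    (hNn : stabilizer G γ ≤ Subgroup.normalizer (N : Set G)) (hNδ : N ≤ stabilizer G δ) :
    N ≤ maxKer G S γ := by
  intro n hn
  rw [mem_maxKer]
  refine ⟨hN hn, fun ε hε => ?_⟩
  by_contra hne
  have h1 := suborbit_lt hprim hH hep hγδ N hN hNn hNδ ⟨n, hn, hne⟩
  have h2 := hS δ ε
  omega

/-- **Manning's theorem** for extremely primitive groups: the point stabilizer acts faithfully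
on each of its nontrivial orbits. -/
theorem manning (hprim : IsPreprimitive G Ω) (hH : ∀ α : Ω, stabilizer G α ≠ ⊥)
    (hep : ∀ (α ω : Ω), IsPreprimitive (stabilizer G α) (orbit (stabilizer G α) ω))
    (α ω : Ω) (hω : ω ≠ α) (h : G) (hα : h • α = α)
    (hfix : ∀ x ∈ orbit (stabilizer G α) ω, h • x = x) : h = 1 := by
  classical
  by_contra hne
  have htr : IsPretransitive G Ω := hprim.toIsPretransitive
  have hnon : Nonempty (Ω × Ω) := ⟨(α, α)⟩
  obtain ⟨⟨α1, β1⟩, hmax⟩ :=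
    Finite.exists_max (fun p : Ω × Ω => Nat.card (orbit (stabilizer G p.1) p.2))
  obtain ⟨S, hSdef⟩ : ∃ S, S = Nat.card (orbit (stabilizer G α1) β1) := ⟨_, rfl⟩
  have hS : ∀ γ ε : Ω, Nat.card (orbit (stabilizer G γ) ε) ≤ S :=
    fun γ ε => hSdef ▸ hmax (γ, ε)
  have hhK : h ∈ maxKer G S α := by
    have hle := le_maxKer hprim hH hep S hS (Ne.symm hω)
      (fixKer G α (orbit (stabilizer G α) ω)) (fixKer_le _ _)
      (fixKer_normal α _ (fun x hx y hy => by
        rw [mem_orbit_subgroup] at hy ⊢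
        obtain ⟨z, hz, rfl⟩ := hy
        exact ⟨x * z, mul_mem hx hz, mul_smul _ _ _⟩))
      (fun g hg => (mem_fixKer.mp hg).2 ω (mem_orbit_self ω))
    exact hle (mem_fixKer.mpr ⟨hα, hfix⟩)
  obtain ⟨g1, hg1⟩ := exists_smul_eq G α1 α
  obtain ⟨β, hβdef⟩ : ∃ β, β = g1 • β1 := ⟨_, rfl⟩
  have hαβS : Nat.card (orbit (stabilizer G α) β) = S := by
    rw [hβdef, ← hg1, subSize_smul, hSdef]
  obtain ⟨τ0, hτ0⟩ : ∃ τ, h • τ ≠ τ := by
    by_contra hall
    push Not at hall
    exact hne (FaithfulSMul.eq_of_smul_eq_smul (α := Ω) (fun τ => by rw [hall τ, one_smul]))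
  have hαβ : α ≠ β := by
    intro heq
    have h0 : orbit (stabilizer G α) α = {α} := by
      ext y
      rw [mem_orbit_subgroup, Set.mem_singleton_iff]
      constructor
      · rintro ⟨x, hx, rfl⟩; exact mem_stabilizer_iff.mp hx
      · rintro rfl; exact ⟨1, one_mem _, one_smul _ _⟩
    rw [← heq, Nat.card_coe_set_eq, h0, Set.ncard_singleton] at hαβS
    have h2 := hS α τ0
    rw [← hαβS, Nat.card_coe_set_eq] at h2
    have h3 : 1 < (orbit (stabilizer G α) τ0).ncard :=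
      (Set.one_lt_ncard_iff (Set.toFinite _)).mpr
        ⟨h • τ0, τ0, (mem_orbit_subgroup _ _ _).mpr ⟨h, hα, rfl⟩, mem_orbit_self τ0, hτ0⟩
    omega
  obtain ⟨g, hg⟩ := exists_smul_eq G α β
  have hgi : g⁻¹ • β = α := by rw [← hg, inv_smul_smul]
  have hkK : g * h * g⁻¹ ∈ maxKer G S β := by
    rw [mem_maxKer]
    refine ⟨?_, fun ε hε => ?_⟩
    · rw [mul_smul, mul_smul, hgi, hα, hg]
    · have h5 := subSize_smul g⁻¹ β ε
      rw [hgi] at h5
      have h6 := (mem_maxKer.mp hhK).2 (g⁻¹ • ε) (h5.trans hε)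
      rw [mul_smul, mul_smul, h6, smul_inv_smul]
  have hKαβ : maxKer G S α ≤ stabilizer G β := fun k hk => (mem_maxKer.mp hk).2 β hαβS
  have hβαS : Nat.card (orbit (stabilizer G β) α) = S := by
    rw [← subSize_symm htr α β]; exact hαβS
  have hKβα : maxKer G S β ≤ stabilizer G α := fun k hk => (mem_maxKer.mp hk).2 α hβαS
  have hD : ∀ σ : Ω, (∃ k ∈ maxKer G S α, k • σ ≠ σ) → (∃ k ∈ maxKer G S β, k • σ ≠ σ) →
      False := by
    intro σ h1 h2
    have h7 := suborbit_lt hprim hH hep hαβ (maxKer G S α) (maxKer_le S α) (maxKer_normal S α)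
      hKαβ h1
    have h8 := suborbit_lt hprim hH hep (Ne.symm hαβ) (maxKer G S β) (maxKer_le S β)
      (maxKer_normal S β) hKβα h2
    omega
  have hVn : stabilizer G β ≤ Subgroup.normalizer
      (fixKer G β {τ | ∃ k ∈ maxKer G S β, k • τ ≠ τ} : Set G) := by
    apply fixKer_normal
    rintro x hx τ ⟨k, hk, hkτ⟩
    refine ⟨x * k * x⁻¹, ?_, ?_⟩
    · exact (Subgroup.mem_normalizer_iff.mp (maxKer_normal S β hx) k).mp hk
    · rw [mul_smul, mul_smul, inv_smul_smul]
      intro h'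
      exact hkτ (MulAction.injective x h')
  have hKαV : maxKer G S α ≤ fixKer G β {τ | ∃ k ∈ maxKer G S β, k • τ ≠ τ} := by
    intro k hk
    rw [mem_fixKer]
    refine ⟨hKαβ hk, fun τ hτ => ?_⟩
    by_contra hne'
    exact hD τ ⟨k, hk, hne'⟩ hτ
  obtain ⟨τ, hτ⟩ : ∃ τ, (g * h * g⁻¹) • τ ≠ τ := by
    by_contra hall
    push Not at hall
    have h9 : g * h * g⁻¹ = 1 :=
      FaithfulSMul.eq_of_smul_eq_smul (α := Ω) (fun τ => by rw [hall τ, one_smul])
    exact hne (conj_eq_one_iff.mp h9)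
  have hτβ : β ≠ τ := by
    rintro rfl
    exact hτ (mem_maxKer.mp hkK).1
  have hVle := le_maxKer hprim hH hep S hS hτβ
    (fixKer G β {τ | ∃ k ∈ maxKer G S β, k • τ ≠ τ}) (fixKer_le _ _) hVn
    (fun v hv => (mem_fixKer.mp hv).2 τ ⟨g * h * g⁻¹, hkK, hτ⟩)
  have hhKβ : h ∈ maxKer G S β := hVle (hKαV hhK)
  exact hD τ0 ⟨h, hhK, hτ0⟩ ⟨h, hhKβ, hτ0⟩

end Finite

end Cfsg.Agent.Helper19
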