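import Mathlib

set_option autoImplicit false

namespace Cfsg.Agent.Helper19

/-- A self-map of a finite set whose `p`-th iterate is the identity has `|Q| ≡ |Fix|` mod `p`. -/
theorem o320_fp_mod {Q : Type*} [Finite Q] (p : ℕ) [Fact p.Prime] (f : Q → Q)
    (hf : ∀ x, f^[p] x = x) : Nat.card Q ≡ Nat.card {x : Q // f x = x} [MOD p] := by
  classical
  haveI := Fintype.ofFinite Q
  obtain ⟨F, hF⟩ : ∃ F : Function.End Q, F = f := ⟨f, rfl⟩
  have h1 : F ^ p ^ 1 = 1 := by
    funext x
    rw [pow_one, hF]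
    exact hf x
  have h := Equiv.Perm.card_fixedPoints_modEq (p := p) (n := 1) h1
  rw [← Nat.card_eq_fintype_card, ← Nat.card_eq_fintype_card] at h
  subst hF
  exact h

/-- The fixed points of a multiplicative self-map form a subgroup. -/
def o320_fix {Q : Type*} [CommGroup Q] (f : Q → Q) (hf : ∀ x y, f (x * y) = f x * f y) :
    Subgroup Q where
  carrier := {x | f x = x}
  mul_mem' := by
    intro x y hx hy
    simp only [Set.mem_ofPred_eq] at *
    rw [hf, hx, hy]
  one_mem' := by
    have h := hf 1 1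
    simp only [Set.mem_ofPred_eq]
    rw [mul_one] at h
    have h2 : f 1 * f 1 = f 1 * 1 := by rw [mul_one]; exact h.symm
    exact mul_left_cancel h2
  inv_mem' := by
    intro x hx
    simp only [Set.mem_ofPred_eq] at *
    have h0 := hf 1 1
    rw [mul_one] at h0
    have h1 : f 1 = 1 := by
      have h2 : f 1 * f 1 = f 1 * 1 := by rw [mul_one]; exact h0.symm
      exact mul_left_cancel h2
    have h := hf x⁻¹ x
    rw [inv_mul_cancel, h1, hx] at h
    exact eq_inv_of_mul_eq_one_left h.symm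

theorem o320_inv_mod {Q : Type*} [Group Q] [Finite Q] (p : ℕ) [Fact p.Prime] (f : Q → Q)
    (S : Subgroup Q) (hS : ∀ x ∈ S, f x ∈ S) (hp : ∀ x ∈ S, f^[p] x = x) (h1 : f 1 = 1)
    (hfix : ∀ x ∈ S, f x = x → x = 1) : Nat.card S ≡ 1 [MOD p] := by
  have key : ∀ (n : ℕ) (y : S),
      (((fun x : S => (⟨f x.1, hS x.1 x.2⟩ : S))^[n] y : S) : Q) = f^[n] y.1 := by
    intro n
    induction n with
    | zero => intro y; rfl
    | succ n ih =>
      intro y
      rw [Function.iterate_succ_apply, Function.iterate_succ_apply, ih]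
  have h := o320_fp_mod p (fun x : S => (⟨f x.1, hS x.1 x.2⟩ : S)) (by
    intro x
    apply Subtype.ext
    rw [key]
    exact hp x.1 x.2)
  have h2 : Nat.card {x : S // (⟨f x.1, hS x.1 x.2⟩ : S) = x} = 1 := by
    rw [Nat.card_eq_one_iff_unique]
    refine ⟨⟨?_⟩, ⟨⟨1, Subtype.ext h1⟩⟩⟩
    intro x y
    have hx : x.1 = 1 := Subtype.ext (hfix x.1.1 x.1.2 (congrArg Subtype.val x.2))
    have hy : y.1 = 1 := Subtype.ext (hfix y.1.1 y.1.2 (congrArg Subtype.val y.2))
    exact Subtype.ext (hx.trans hy.symm)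
  rw [h2] at h
  exact h

/-- Core lemma: an elementary abelian group of order 16 with an automorphism `a` of order 5
and an involutory automorphism `τ` normalizing `⟨a⟩`: every `τ`-fixed point is `w * τ w`. -/
theorem o320_core {Q : Type*} [CommGroup Q] [Finite Q] (hQ : Nat.card Q = 16)
    (hexp : ∀ x : Q, x * x = 1) (a τ : Q → Q)
    (ha : ∀ x y, a (x * y) = a x * a y) (hτ : ∀ x y, τ (x * y) = τ x * τ y)
    (ha5 : ∀ x, a (a (a (a (a x)))) = x) (ha1 : ∃ x, a x ≠ x)
    (hτ2 : ∀ x, τ (τ x) = x) (hτ1 : ∃ x, τ x ≠ x)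
    (hcase : (∀ x, τ (a x) = a (τ x)) ∨ (∀ x, τ (a x) = a (a (a (a (τ x)))))) :
    ∀ x, τ x = x → ∃ w, x = w * τ w := by
  classical
  have : Fact (Nat.Prime 5) := ⟨by norm_num⟩
  have : Fact (Nat.Prime 3) := ⟨by norm_num⟩
  have hinv : ∀ x : Q, x⁻¹ = x := fun x => inv_eq_of_mul_eq_one_left (hexp x)
  have ha_one : a 1 = 1 := (o320_fix a ha).one_mem
  -- (a) the fixed points of `a`
  have hfa : ∀ x, a x = x → x = 1 := by
    have hm := o320_fp_mod 5 a (fun x => ha5 x)
    have hdvd : Nat.card (o320_fix a ha) ∣ Nat.card Q := Subgroup.card_subgroup_dvd_card _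
    have hc : Nat.card {x : Q // a x = x} = Nat.card (o320_fix a ha) := rfl
    rw [hc, hQ] at hm
    rw [hQ] at hdvd
    obtain ⟨n, hn⟩ : ∃ n, n = Nat.card (o320_fix a ha) := ⟨_, rfl⟩
    rw [← hn] at hm hdvd
    have hle : n ≤ 16 := Nat.le_of_dvd (by norm_num) hdvd
    have hm' : 16 % 5 = n % 5 := hm
    have hn' : n = 1 ∨ n = 16 := by
      interval_cases n <;> omega
    rcases hn' with h | h
    · have hbot : o320_fix a ha = ⊥ := Subgroup.eq_bot_of_card_eq _ (by rw [← hn, h])
      intro x hx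
      have hx' : x ∈ o320_fix a ha := hx
      rw [hbot] at hx'
      exact Subgroup.mem_bot.mp hx'
    · exfalso
      have htop : o320_fix a ha = ⊤ := Subgroup.eq_top_of_card_eq _ (by rw [← hn, h, hQ])
      obtain ⟨x, hx⟩ := ha1
      have hx' : x ∈ o320_fix a ha := by rw [htop]; exact Subgroup.mem_top x
      exact hx hx'
  -- (b) the norm relation
  have hnorm : ∀ v, v * a v * a (a v) * a (a (a v)) * a (a (a (a v))) = 1 := by
    intro v
    apply hfa
    rw [ha, ha, ha, ha, ha5]
    ac_rfl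
  -- (d) the fixed points of `τ`
  obtain ⟨C, hC⟩ : ∃ C : Subgroup Q, C = o320_fix τ hτ := ⟨_, rfl⟩
  have hCmem : ∀ x, x ∈ C ↔ τ x = x := fun x => by rw [hC]; exact Iff.rfl
  obtain ⟨φ, hφ⟩ : ∃ φ : Q →* Q, ∀ v, φ v = v * τ v :=
    ⟨MonoidHom.mk' (fun v => v * τ v) (by
      intro x y
      show x * y * τ (x * y) = x * τ x * (y * τ y)
      rw [hτ]; ac_rfl), fun v => rfl⟩
  have hker : φ.ker = C := by
    ext x
    rw [MonoidHom.mem_ker, hφ, hCmem]
    constructor
    · intro h
      have h2 := eq_inv_of_mul_eq_one_right h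
      rw [h2, hinv]
    · intro h
      rw [h]; exact hexp x
  have hrange : φ.range ≤ C := by
    rintro _ ⟨v, rfl⟩
    rw [hCmem, hφ, hτ, hτ2, mul_comm]
  have hcard : Nat.card C * Nat.card φ.range = 16 := by
    have h := Subgroup.card_mul_index φ.ker
    rw [Subgroup.index_ker, hker, hQ] at h
    exact h
  have hrc : Nat.card φ.range ≤ Nat.card C := Subgroup.card_le_of_le hrange
  have hC16 : Nat.card C ≠ 16 := by
    intro h
    have htop : C = ⊤ := Subgroup.eq_top_of_card_eq _ (by rw [h, hQ])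
    obtain ⟨x, hx⟩ := hτ1
    exact hx ((hCmem x).mp (by rw [htop]; exact Subgroup.mem_top x))
  have hCmod : Nat.card C ≡ 1 [MOD 5] ∨ Nat.card C ≡ 1 [MOD 3] := by
    rcases hcase with hc | hc
    · left
      refine o320_inv_mod 5 a C ?_ (fun x _ => ha5 x) ha_one (fun x _ hx => hfa x hx)
      intro x hx
      rw [hCmem] at hx ⊢
      rw [hc, hx]
    · right
      have hc4 : ∀ x, τ (a (a (a (a x)))) = a (τ x) := by
        intro x
        rw [hc, hc, hc, hc]
        simp only [ha5]
      obtain ⟨N, hN⟩ : ∃ N : Q → Q, N = fun v => a v * a (a (a (a v))) := ⟨_, rfl⟩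
      have hNv : ∀ v, N v = a v * a (a (a (a v))) := fun v => by rw [hN]
      have hNmul : ∀ x y, N (x * y) = N x * N y := by
        intro x y
        rw [hNv, hNv, hNv, ha, ha, ha, ha]
        ac_rfl
      have hNN : ∀ v, N (N v) = v * N v := by
        intro v
        have h1 : N (N v) = a (a v) * a (a (a v)) := by
          rw [hNv (N v), hNv v]
          simp only [ha, ha5]
          calc a (a v) * v * (v * a (a (a v))) = (v * v) * (a (a v) * a (a (a v))) := by ac_rfl
            _ = a (a v) * a (a (a v)) := by rw [hexp, one_mul]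
        have h2 := hnorm v
        rw [h1, hNv]
        have h3 : (a (a v) * a (a (a v))) * (v * (a v * a (a (a (a v))))) = 1 := by
          rw [← h2]; ac_rfl
        rw [eq_inv_of_mul_eq_one_left h3, hinv]
      have hN3 : ∀ v, N^[3] v = v := by
        intro v
        show N (N (N v)) = v
        rw [hNN, hNN]
        calc N v * (v * N v) = v * (N v * N v) := by ac_rfl
          _ = v := by rw [hexp, mul_one]
      have hNfix : ∀ v, N v = v → v = 1 := by
        intro v hv
        have h := hNN v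
        rw [hv, hv, hexp] at h
        exact h
      have hN1 : N 1 = 1 := by
        simp only [hNv, ha_one, mul_one]
      refine o320_inv_mod 3 N C ?_ (fun x _ => hN3 x) hN1 (fun x _ hx => hNfix x hx)
      intro x hx
      rw [hCmem] at hx ⊢
      rw [hNv, hτ, hc, hc4, hx, mul_comm]
  obtain ⟨c, hc⟩ : ∃ c, c = Nat.card C := ⟨_, rfl⟩
  obtain ⟨r, hr⟩ : ∃ r, r = Nat.card φ.range := ⟨_, rfl⟩
  rw [← hc] at hcard hrc hC16 hCmod
  rw [← hr] at hcard hrc
  have hc4 : c = 4 ∧ r = 4 := by
    have hcle : c ≤ 16 := Nat.le_of_dvd (by norm_num) ⟨r, hcard.symm⟩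
    have h5 : c % 5 = 1 % 5 ∨ c % 3 = 1 % 3 := hCmod
    interval_cases c <;> omega
  have hCr : φ.range = C :=
    Subgroup.eq_of_le_of_card_ge hrange (by rw [← hc, ← hr, hc4.1, hc4.2])
  intro x hx
  have hxr : x ∈ φ.range := by rw [hCr]; exact (hCmem x).mpr hx
  obtain ⟨w, hw⟩ := hxr
  exact ⟨w, by rw [← hφ]; exact hw.symm⟩

end Cfsg.Agent.Helper19
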