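import Mathlib
import Cfsg.Agent.S0494
import Cfsg.Agent.S0252
import Cfsg.Agent.S4812
import Cfsg.Agent.Helper24.ItoPSolv
import Cfsg.Agent.Helper13.Codeg
import Cfsg.Agent.Helper23.SmallSimple
import Cfsg.Agent.Helper2.CharLinear

/-!
# Groups of order 60 and character degrees (for S3669)
-/

set_option autoImplicit false

namespace Cfsg.Agent.Helper19

open Cfsg

theorem o60_degreePrimes_A5 :
    Cfsg.degreePrimes (alternatingGroup (Fin 5)) = {r : ℕ | r.Prime ∧ r ∣ 60} := by
  classical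
  haveI : Fintype (GaloisField 2 2) := Fintype.ofFinite _
  have hc : Fintype.card (GaloisField 2 2) = 4 := by
    rw [← Nat.card_eq_fintype_card, GaloisField.card 2 2 (by norm_num)]
    norm_num
  obtain ⟨e⟩ := Cfsg.Agent.S0252.result (F := GaloisField 2 2) hc
  have h := (Cfsg.Agent.S4812.result (GaloisField 2 2) 4 hc (le_refl 4)
    (S := alternatingGroup (Fin 5)) (Or.inl ⟨e.symm⟩)).1
  rw [h]
  norm_num

theorem o60_exists_irr_dvd {G : Type*} [Group G] [Finite G]
    (hΓ : Cfsg.degreePrimes G = Cfsg.degreePrimes (alternatingGroup (Fin 5))) (p : ℕ)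
    (hp : p.Prime) (hp60 : p ∣ 60) :
    ∃ χ : G → ℂ, IsIrrCharacter G χ ∧ p ∣ charDegree χ := by
  have hmem : p ∈ Cfsg.degreePrimes G := by
    rw [hΓ, o60_degreePrimes_A5]
    exact ⟨hp, hp60⟩
  obtain ⟨-, d, ⟨χ, rfl⟩, hd⟩ := hmem
  exact ⟨χ.1, χ.2, hd⟩

theorem o60_sum_sq_le {X : Type*} [Group X] [Finite X] (s : Finset (IrrCharacter X)) :
    ∑ χ ∈ s, charDegree (χ : X → ℂ) ^ 2 ≤ Nat.card X := by
  classical
  haveI : Finite (IrrCharacter X) := Helper24.finite_irrCharacter
  haveI := Fintype.ofFinite (IrrCharacter X)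
  rw [← Helper13.sum_charDegree_sq (G := X)]
  exact Finset.sum_le_sum_of_subset (Finset.subset_univ s)

theorem o60_sq1 {X : Type*} [Group X] [Finite X] (a : X → ℂ) (ha : IsIrrCharacter X a) :
    charDegree a ^ 2 ≤ Nat.card X := by
  classical
  have h := o60_sum_sq_le ({⟨a, ha⟩} : Finset (IrrCharacter X))
  rwa [Finset.sum_singleton] at h

theorem o60_sq2 {X : Type*} [Group X] [Finite X] (a b : X → ℂ) (ha : IsIrrCharacter X a)
    (hb : IsIrrCharacter X b) (hab : charDegree a ≠ charDegree b) :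
    charDegree a ^ 2 + charDegree b ^ 2 ≤ Nat.card X := by
  classical
  have h := o60_sum_sq_le ({⟨a, ha⟩, ⟨b, hb⟩} : Finset (IrrCharacter X))
  rwa [Finset.sum_pair] at h
  intro heq
  exact hab (congrArg (fun x : IrrCharacter X => charDegree (x : X → ℂ)) heq)

theorem o60_sq3 {X : Type*} [Group X] [Finite X] (a b c : X → ℂ) (ha : IsIrrCharacter X a)
    (hb : IsIrrCharacter X b) (hc : IsIrrCharacter X c) (hab : charDegree a ≠ charDegree b)
    (hac : charDegree a ≠ charDegree c) (hbc : charDegree b ≠ charDegree c) :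
    charDegree a ^ 2 + charDegree b ^ 2 + charDegree c ^ 2 ≤ Nat.card X := by
  classical
  have h := o60_sum_sq_le ({⟨a, ha⟩, ⟨b, hb⟩, ⟨c, hc⟩} : Finset (IrrCharacter X))
  rw [Finset.sum_insert, Finset.sum_pair] at h
  · rw [add_assoc]
    exact h
  · intro heq
    exact hbc (congrArg (fun x : IrrCharacter X => charDegree (x : X → ℂ)) heq)
  · simp only [Finset.mem_insert, Finset.mem_singleton, not_or]
    exact ⟨fun heq => hab (congrArg (fun x : IrrCharacter X => charDegree (x : X → ℂ)) heq),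
      fun heq => hac (congrArg (fun x : IrrCharacter X => charDegree (x : X → ℂ)) heq)⟩

theorem o60_arith_cp (p e i : ℕ) (hp : p.Prime) (h1 : e ∣ p) (h2 : p / e ∣ i) :
    e = p ∨ p ∣ i := by
  rcases (Nat.dvd_prime hp).mp h1 with rfl | rfl
  · right
    simpa using h2
  · left
    rfl

theorem o60_arith_c2 (d e i : ℕ) (hd : d = 2 ∨ d = 4) (h1 : e ∣ d) (h2 : d / e ∣ i) :
    e = 2 ∨ e = 4 ∨ 2 ∣ i := by
  rcases hd with rfl | rfl
  · have hle : e ≤ 2 := Nat.le_of_dvd (by norm_num) h1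
    have hpos : 0 < e := Nat.pos_of_dvd_of_pos h1 (by norm_num)
    interval_cases e
    · right; right
      simpa using h2
    · left; rfl
  · have hle : e ≤ 4 := Nat.le_of_dvd (by norm_num) h1
    have hpos : 0 < e := Nat.pos_of_dvd_of_pos h1 (by norm_num)
    interval_cases e
    · right; right
      exact dvd_trans (by norm_num) h2
    · right; right
      simpa using h2
    · omega
    · right; left; rfl

theorem o60_arith_core (h i e5 e3 e2 : ℕ) (hi : h * i = 60) (h1 : h ≠ 1) (h60 : h ≠ 60)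
    (c5 : e5 = 5 ∨ 5 ∣ i) (c3 : e3 = 3 ∨ 3 ∣ i) (c2 : e2 = 2 ∨ e2 = 4 ∨ 2 ∣ i)
    (B5 : e5 = 5 → 26 ≤ h) (B53 : e5 = 5 → e3 = 3 → 35 ≤ h) (B3 : e3 = 3 → 10 ≤ h)
    (B32 : e3 = 3 → (e2 = 2 ∨ e2 = 4) → 14 ≤ h) (B2 : (e2 = 2 ∨ e2 = 4) → 5 ≤ h) : h = 2 := by
  have hh : h ∣ 60 := ⟨i, hi.symm⟩
  have hle : h ≤ 60 := Nat.le_of_dvd (by norm_num) hh
  have hpos : 0 < h := Nat.pos_of_dvd_of_pos hh (by norm_num)
  interval_cases h <;> omega

theorem o60_normal_card_two {G : Type*} [Group G] [Finite G] (hcard : Nat.card G = 60)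
    (χ5 χ3 χ2 : G → ℂ) (h5 : IsIrrCharacter G χ5) (h3 : IsIrrCharacter G χ3)
    (h2 : IsIrrCharacter G χ2) (d5 : charDegree χ5 = 5) (d3 : charDegree χ3 = 3)
    (d2 : charDegree χ2 = 2 ∨ charDegree χ2 = 4)
    (H : Subgroup G) [H.Normal] (hb : H ≠ ⊥) (ht : H ≠ ⊤) : Nat.card H = 2 := by
  classical
  haveI := Fintype.ofFinite G
  haveI : Fintype H := Fintype.ofFinite H
  obtain ⟨θ5, hθ5, hc5⟩ := Helper24.exists_constituent_restrict H h5
  obtain ⟨θ3, hθ3, hc3⟩ := Helper24.exists_constituent_restrict H h3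
  obtain ⟨θ2, hθ2, hc2⟩ := Helper24.exists_constituent_restrict H h2
  have k5 := Helper24.charDegree_dvd_of_constituent H h5 hθ5 hc5
  have k3 := Helper24.charDegree_dvd_of_constituent H h3 hθ3 hc3
  have k2 := Helper24.charDegree_dvd_of_constituent H h2 hθ2 hc2
  rw [d5] at k5
  rw [d3] at k3
  have hci := Subgroup.card_mul_index H
  rw [hcard] at hci
  have hH1 : Nat.card H ≠ 1 := fun h => hb (Subgroup.card_eq_one.mp h)
  have hH60 : Nat.card H ≠ 60 := fun h => ht (Subgroup.eq_top_of_card_eq H (h.trans hcard.symm))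
  have ht1 : charDegree (fun _ : H => (1 : ℂ)) = 1 := Helper13.charDegree_of_eq (by simp)
  have hone := Helper2.isIrrCharacter_one_fun (G := H)
  have c5 := o60_arith_cp 5 _ _ (by norm_num) k5.1 k5.2
  have c3 := o60_arith_cp 3 _ _ (by norm_num) k3.1 k3.2
  have c2 := o60_arith_c2 _ _ _ d2 k2.1 k2.2
  refine o60_arith_core (Nat.card H) H.index (charDegree θ5) (charDegree θ3) (charDegree θ2)
    hci hH1 hH60 c5 c3 c2 ?_ ?_ ?_ ?_ ?_
  · intro he
    have := o60_sq2 (fun _ => 1) θ5 hone hθ5 (by rw [ht1, he]; norm_num)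
    rw [ht1, he] at this
    omega
  · intro he he'
    have := o60_sq3 (fun _ => 1) θ5 θ3 hone hθ5 hθ3 (by rw [ht1, he]; norm_num)
      (by rw [ht1, he']; norm_num) (by rw [he, he']; norm_num)
    rw [ht1, he, he'] at this
    omega
  · intro he
    have := o60_sq2 (fun _ => 1) θ3 hone hθ3 (by rw [ht1, he]; norm_num)
    rw [ht1, he] at this
    omega
  · intro he he'
    have := o60_sq3 (fun _ => 1) θ3 θ2 hone hθ3 hθ2 (by rw [ht1, he]; norm_num)
      (by rw [ht1]; omega) (by rw [he]; omega)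
    rw [ht1, he] at this
    rcases he' with he' | he' <;> rw [he'] at this <;> omega
  · intro he'
    have := o60_sq2 (fun _ => 1) θ2 hone hθ2 (by rw [ht1]; omega)
    rw [ht1] at this
    rcases he' with he' | he' <;> rw [he'] at this <;> omega

theorem o60_no_simple_30 {Q : Type*} [Group Q] [Finite Q] [IsSimpleGroup Q]
    (h : Nat.card Q = 30) : False := by
  haveI : Fact (Nat.Prime 5) := ⟨by norm_num⟩
  obtain ⟨P⟩ : Nonempty (Sylow 5 Q) := inferInstance
  have hP : Nat.card (P : Subgroup Q) = 5 := by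
    have := Helper23.card_sylow_of_card 5 1 6 (h.trans (by norm_num)) (by norm_num) P
    simpa using this
  have hn1 := Helper23.card_sylow_ne_one_of_simple 5 P (by rw [hP]; norm_num)
    (by rw [hP, h]; norm_num)
  have hdvd := Helper23.card_sylow_dvd_of_card (G := Q) 5 1 6 (h.trans (by norm_num))
    (by norm_num)
  have hmod := card_sylow_modEq_one 5 Q
  have hN := Helper23.card_normalizer_sylow P
  have hn6 : Nat.card (Sylow 5 Q) = 6 := by
    have hle : Nat.card (Sylow 5 Q) ≤ 6 := Nat.le_of_dvd (by norm_num) hdvd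
    have hpos : 0 < Nat.card (Sylow 5 Q) := Nat.card_pos
    unfold Nat.ModEq at hmod
    omega
  rw [hn6, h] at hN
  have hN5 : Nat.card (Subgroup.normalizer ((P : Subgroup Q) : Set Q)) = 5 := by omega
  have hPN : (P : Subgroup Q) = Subgroup.normalizer ((P : Subgroup Q) : Set Q) :=
    Subgroup.eq_of_le_of_card_ge Subgroup.le_normalizer (by rw [hN5, hP])
  haveI : IsCyclic (P : Subgroup Q) := isCyclic_of_prime_card hP
  apply Helper23.not_normalizer_le_centralizer_of_simple 5 P (by rw [hP]; norm_num)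
    (by rw [hP, h]; norm_num)
  exact hPN.symm.le.trans (Helper23.le_centralizer_of_isCyclic (P : Subgroup Q))

end Cfsg.Agent.Helper19
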